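import Cfsg.Agent.Lib.DegComp.Palfy.Tools

/-!
# The missing prime differs from the characteristic of the minimal normal subgroup
-/

set_option autoImplicit false
set_option linter.style.haveILetI false
set_option linter.unusedSectionVars false

namespace CfsgLib.DegComp.Palfy

open CfsgLib.Coprime
open Subgroup Cfsg

universe u

/-- The first case. -/
theorem case_one {G : Type u} [Group G] [Finite G] [Group.IsSolvable G] (N : Subgroup G) [N.Normal]
    (hN : N ≠ ⊥) (hc : ∀ a ∈ N, ∀ b ∈ N, a * b = b * a)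
    (hmin : ∀ K : Subgroup G, K.Normal → K ≤ N → K = ⊥ ∨ K = N) {s : ℕ} (hs : s.Prime)
    (hexp : ∀ x ∈ N, x ^ s = 1) {q p r : ℕ} [hq : Fact q.Prime] [hp : Fact p.Prime]
    [hr : Fact r.Prime] (hqs : q ≠ s) (hqp : q ≠ p) (hqr : q ≠ r) (hpr : p ≠ r)
    (hρq : Rho G q) (hρp : Rho G p) (hρr : Rho G r) (hmiss : ¬ Rho (G ⧸ N) q)
    (nqp : ¬ Adj G q p) (nqr : ¬ Adj G q r) (npr : ¬ Adj G p r) : False := by
  classical
  haveI := Fintype.ofFinite G
  haveI := Fintype.ofFinite N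
  haveI := Fact.mk hs
  haveI : Group.IsSolvable (G ⧸ N) :=
    Group.isSolvable_of_surjective (QuotientGroup.mk'_surjective N)
  obtain ⟨Q⟩ : Nonempty (Sylow q G) := inferInstance
  set π := QuotientGroup.mk' N
  obtain ⟨hQbn, hQbc⟩ := sylow_of_not_rho hmiss (Q.mapSurjective (QuotientGroup.mk'_surjective N))
  rw [Sylow.coe_mapSurjective] at hQbn hQbc
  set NQ : Subgroup G := N ⊔ (Q : Subgroup G) with hNQ
  haveI hNQn : NQ.Normal := by
    have h := hQbn.comap π
    rwa [comap_map_eq, QuotientGroup.ker_mk', sup_comm] at h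
  have hNp : IsPGroup s N := fun x => ⟨1, Subtype.ext (by
    rw [pow_one]; exact hexp x x.2)⟩
  have hcopQN : (Nat.card (Q : Subgroup G)).Coprime (Nat.card N) := by
    obtain ⟨i, hi⟩ := IsPGroup.iff_card.1 Q.2
    obtain ⟨j, hj⟩ := IsPGroup.iff_card.1 hNp
    rw [hi, hj]
    exact Nat.Coprime.pow _ _ ((Nat.coprime_primes hq.out hs).2 hqs)
  have hdisj : ∀ x ∈ N, x ∈ (Q : Subgroup G) → x = 1 := fun x hx hx' => by
    have h := inf_eq_bot_of_coprime hcopQN
    exact mem_bot.1 (h ▸ mem_inf.2 ⟨hx', hx⟩)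
  set H : Subgroup G := normalizer ((Q : Subgroup G) : Set G) with hH
  have hsup : N ⊔ H = ⊤ := by
    have h := Sylow.normalizer_sup_eq_top' Q (le_sup_right : (Q : Subgroup G) ≤ NQ)
    rw [← h, sup_comm N H]
    refine le_antisymm (sup_le_sup_left le_sup_left _) (sup_le le_sup_left ?_)
    exact sup_le le_sup_right (le_normalizer.trans le_sup_left)
  have hHne : H ≠ ⊤ := by
    intro htop
    haveI hQn : (Q : Subgroup G).Normal := normalizer_eq_top_iff.1 htop
    refine not_rho_of_sylow Q hQn ⟨⟨fun a b => Subtype.ext ?_⟩⟩ hρq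
    have h1 : π ((a : G) * b * (b * a : G)⁻¹) = 1 := by
      rw [map_mul, map_inv, mul_inv_eq_one, map_mul, map_mul]
      exact congrArg Subtype.val (hQbc.is_comm.comm
        (⟨π a, mem_map_of_mem π a.2⟩ : (Q : Subgroup G).map π) ⟨π b, mem_map_of_mem π b.2⟩)
    have h2 := hdisj _ ((QuotientGroup.eq_one_iff _).1 h1)
      (mul_mem (mul_mem a.2 b.2) (inv_mem (mul_mem b.2 a.2)))
    exact mul_inv_eq_one.1 h2
  -- fixed points of `Q` on `N`
  set F : Subgroup G := N ⊓ centralizer ((Q : Subgroup G) : Set G) with hF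
  have hFbot : F = ⊥ := by
    haveI : F.Normal := by
      refine normalizer_eq_top_iff.1 (eq_top_iff.2 (hsup.ge.trans (sup_le ?_ ?_)))
      · intro n hn
        refine centralizer_le_normalizer _ (mem_centralizer_iff.2 fun x hx => ?_)
        exact hc x (mem_inf.1 hx).1 n hn
      · intro h hh
        have hconj : ∀ g ∈ H, ∀ x ∈ F, g * x * g⁻¹ ∈ F := by
          intro g hg x hx
          obtain ⟨hx1, hx2⟩ := mem_inf.1 hx
          refine mem_inf.2 ⟨(inferInstance : N.Normal).conj_mem x hx1 g,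
            mem_centralizer_iff.2 fun a ha => ?_⟩
          have h1 := mem_centralizer_iff.1 hx2 _ ((mem_normalizer_iff''.1 hg a).1 ha)
          calc a * (g * x * g⁻¹) = g * ((g⁻¹ * a * g) * x) * g⁻¹ := by group
            _ = g * x * g⁻¹ * a := by rw [h1]; group
        refine mem_normalizer_iff.2 fun x => ⟨hconj h hh x, fun hx => ?_⟩
        simpa [mul_assoc] using hconj _ (inv_mem hh) _ hx
    rcases hmin F inferInstance inf_le_left with h | h
    · exact h
    · exfalso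
      refine hHne (eq_top_iff.2 (hsup.ge.trans (sup_le ?_ le_rfl)))
      exact (h.ge.trans inf_le_right).trans (centralizer_le_normalizer _)
  have hinf : N ⊓ H = ⊥ := by
    refine le_bot_iff.1 fun x hx => hFbot.le (mem_inf.2 ⟨(mem_inf.1 hx).1,
      mem_centralizer_iff.2 fun a ha => ?_⟩)
    obtain ⟨hxN, hxH⟩ := mem_inf.1 hx
    have h1 : a * x * a⁻¹ * x⁻¹ = 1 := by
      refine hdisj _ (mul_mem ((inferInstance : N.Normal).conj_mem x hxN a) (inv_mem hxN)) ?_
      rw [show a * x * a⁻¹ * x⁻¹ = a * (x * a⁻¹ * x⁻¹) by group]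
      exact mul_mem ha ((mem_normalizer_iff.1 hxH a⁻¹).1 (inv_mem ha))
    exact mul_inv_eq_iff_eq_mul.1 (mul_inv_eq_one.1 h1)
  have hfree : ∀ n ∈ N, (∀ a ∈ (Q : Subgroup G), a * n * a⁻¹ = n) → n = 1 := fun n hn h =>
    mem_bot.1 (hFbot.le (mem_inf.2 ⟨hn, mem_centralizer_iff.2 fun a ha =>
      mul_inv_eq_iff_eq_mul.1 (h a ha)⟩))
  -- every degree over a nontrivial linear character is divisible by `q`
  have hq_dvd : ∀ f : N →* ℂˣ, f ≠ 1 → ∀ χ : IrrCharacter G,
      classInner (fun n : N => (χ : G → ℂ) n) (linIrr f : N → ℂ) ≠ 0 →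
        q ∣ charDegree (χ : G → ℂ) := by
    intro f hf χ hχ
    refine dvd_trans ?_ (Block.ItoMichler.dvd_of_constituent N χ (linIrr f) hχ).2
    set I := Char.inertia N (linIrr f : N → ℂ)
    have hNI : N ≤ I := Char.le_inertia N (Char.isClassFunction_irr (linIrr f))
    by_contra hd
    obtain ⟨S⟩ : Nonempty (Sylow q I) := inferInstance
    have hSi : ¬ q ∣ ((S : Subgroup I).map I.subtype).index := by
      rw [← relIndex_mul_index (map_subtype_le (S : Subgroup I)), relIndex, subgroupOf,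
        comap_map_eq_self_of_injective I.subtype_injective]
      exact fun h => (hq.out.dvd_mul.1 h).elim S.not_dvd_index hd
    set S' := (S.2.map I.subtype).toSylow hSi
    obtain ⟨g, hg⟩ := MulAction.exists_smul_eq G Q S'
    have hS'I : (S' : Subgroup G) ≤ I := by rw [IsPGroup.toSylow_coe]; exact map_subtype_le _
    have hmem : ∀ a ∈ (Q : Subgroup G), g * a * g⁻¹ ∈ I := by
      intro a ha
      refine hS'I ?_
      rw [← hg, Sylow.coe_subgroup_smul, mem_pointwise_smul_iff_inv_smul_mem]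
      simpa [MulAut.smul_def, mul_assoc] using ha
    refine hf ((dual N g⁻¹).injective ((eq_one_of_fixed N hc (Q : Subgroup G) hcopQN hfree
      (dual N g⁻¹ f) fun a ha => ?_).trans (map_one _).symm))
    have h1 : dual N (g * a * g⁻¹) f = f := (dual_eq_iff N _ f).2 (hmem a ha)
    conv_rhs => rw [← h1]
    rw [← MulAut.mul_apply, ← MulAut.mul_apply, ← map_mul, ← map_mul]
    congr 2
    group
  have hsmall : ∀ (f : N →* ℂˣ), f ≠ 1 → ∀ χ : IrrCharacter G,
      classInner (fun n : N => (χ : G → ℂ) n) (linIrr f : N → ℂ) ≠ 0 →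
        ¬ p ∣ charDegree (χ : G → ℂ) ∧ ¬ r ∣ charDegree (χ : G → ℂ) := by
    intro f hf χ hχ
    have h1 := hq_dvd f hf χ hχ
    exact ⟨fun h2 => nqp ⟨χ, ((Nat.coprime_primes hq.out hp.out).2 hqp).mul_dvd_of_dvd_of_dvd h1 h2⟩,
      fun h2 => nqr ⟨χ, ((Nat.coprime_primes hq.out hr.out).2 hqr).mul_dvd_of_dvd_of_dvd h1 h2⟩⟩
  have htriv : ∀ m ∈ N, dual N m = 1 := fun m hm => MulEquiv.ext fun f => MonoidHom.ext fun n => by
    rw [dual_apply, MulAut.one_apply]
    exact congrArg f (Subtype.ext (by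
      show m⁻¹ * (n : G) * m = n
      rw [mul_assoc, hc n n.2 m hm, inv_mul_cancel_left]))
  have hρ : ∀ t : ℕ, (∀ f : N →* ℂˣ, f ≠ 1 → ∀ χ : IrrCharacter G,
      classInner (fun n : N => (χ : G → ℂ) n) (linIrr f : N → ℂ) ≠ 0 →
        ¬ t ∣ charDegree (χ : G → ℂ)) → Rho G t → Rho (G ⧸ N) t := by
    intro t ht hρt
    refine (rho_quotient_or N hc hρt).resolve_right ?_
    rintro ⟨f, hf, χ, hχ, hd⟩
    exact ht f hf χ hχ hd
  have hfix : ∀ t : ℕ, ∀ _ : Fact t.Prime, (∀ f : N →* ℂˣ, f ≠ 1 → ∀ χ : IrrCharacter G,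
      classInner (fun n : N => (χ : G → ℂ) n) (linIrr f : N → ℂ) ≠ 0 →
        ¬ t ∣ charDegree (χ : G → ℂ)) →
      UniqueFixAb (V := N →* ℂˣ) (dualQ N N htriv) t := by
    intro t _ ht f hf
    obtain ⟨φ, hφ⟩ := exists_linear_extension N H hsup hinf f
    obtain ⟨P, h1, h2, h3⟩ := stab_structure N (linIrr f) φ hφ (p := t) (ht f hf)
    obtain ⟨e1, e2⟩ := fix_of_stab N N htriv f rfl P h1 h2
    exact ⟨P, e1, e2, h3⟩
  have hp' := hfix p hp fun f hf χ hχ => (hsmall f hf χ hχ).1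
  have hr' := hfix r hr fun f hf χ hχ => (hsmall f hf χ hχ).2
  have hρp' := hρ p (fun f hf χ hχ => (hsmall f hf χ hχ).1) hρp
  have hρr' := hρ r (fun f hf χ hχ => (hsmall f hf χ hχ).2) hρr
  letI : CommGroup N := { (inferInstance : Group N) with
    mul_comm := fun a b => Subtype.ext (hc a a.2 b b.2) }
  haveI hV : Nontrivial (N →* ℂˣ) := by
    haveI : Nontrivial N := (nontrivial_iff_ne_bot N).2 hN
    rw [← Finite.one_lt_card_iff_nontrivial, CommGroup.card_monoidHom_of_hasEnoughRootsOfUnity N ℂ]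
    exact Finite.one_lt_card
  have hdvd : ∀ t : ℕ, ∀ _ : Fact t.Prime, UniqueFixAb (V := N →* ℂˣ) (dualQ N N htriv) t →
      Rho (G ⧸ N) t → t ∣ Nat.card (dualQ N N htriv).range := by
    intro t _ ht hρt
    by_contra hd
    obtain ⟨P⟩ : Nonempty (Sylow t (G ⧸ N)) := inferInstance
    obtain ⟨h1, h2⟩ := UniqueFixAb.sylow_of_not_dvd (V := N →* ℂˣ) ht hV hd P
    exact not_rho_of_sylow P h1 h2 hρt
  exact npr (adj_of_unique N N hN hc hmin hs hexp htriv hpr hp' hr' (hdvd p hp hp' hρp')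
    (hdvd r hr hr' hρr'))

end CfsgLib.DegComp.Palfy
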