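import Cfsg.Agent.Lib.DegComp.Palfy.Mixed
import Cfsg.Agent.Lib.DegComp.Palfy.CaseOne

/-!
# The missing prime is the characteristic of the minimal normal subgroup
-/

set_option autoImplicit false
set_option linter.style.haveILetI false
set_option linter.unusedSectionVars false

namespace CfsgLib.DegComp.Palfy

open CfsgLib.Coprime
open Subgroup Cfsg
open scoped commutatorElement

universe u

/-- The second case. -/
theorem case_two {G : Type u} [Group G] [Finite G] [Group.IsSolvable G] (N : Subgroup G) [N.Normal]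
    (hN : N ≠ ⊥) (hc : ∀ a ∈ N, ∀ b ∈ N, a * b = b * a)
    (hmin : ∀ K : Subgroup G, K.Normal → K ≤ N → K = ⊥ ∨ K = N) {q : ℕ} [hq : Fact q.Prime]
    (hexp : ∀ x ∈ N, x ^ q = 1) {p r : ℕ} [hp : Fact p.Prime] [hr : Fact r.Prime]
    (hqp : q ≠ p) (hqr : q ≠ r) (hpr : p ≠ r) (hρq : Rho G q) (hmiss : ¬ Rho (G ⧸ N) q)
    (hρp : Rho (G ⧸ N) p) (hρr : Rho (G ⧸ N) r)
    (nqp : ¬ Adj G q p) (nqr : ¬ Adj G q r) (npr : ¬ Adj G p r) : False := by
  classical
  haveI := Fintype.ofFinite G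
  haveI := Fintype.ofFinite N
  haveI : Group.IsSolvable (G ⧸ N) :=
    Group.isSolvable_of_surjective (QuotientGroup.mk'_surjective N)
  obtain ⟨QS⟩ : Nonempty (Sylow q G) := inferInstance
  set πN := QuotientGroup.mk' N
  obtain ⟨hQbn, hQbc⟩ := sylow_of_not_rho hmiss (QS.mapSurjective (QuotientGroup.mk'_surjective N))
  rw [Sylow.coe_mapSurjective] at hQbn hQbc
  set Q : Subgroup G := (QS : Subgroup G) with hQdef
  have hNQ : N ≤ Q := (le_pCore (show IsPGroup q N from fun x => ⟨1, Subtype.ext (by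
    rw [pow_one]; exact hexp x x.2)⟩)).trans (pCore_le_sylow QS)
  haveI hQn : Q.Normal := by
    have h := hQbn.comap πN
    rwa [comap_map_eq, QuotientGroup.ker_mk', sup_eq_left.2 hNQ] at h
  haveI := Fintype.ofFinite Q
  have hQ : IsPGroup q Q := QS.2
  have hidx : ¬ q ∣ Q.index := QS.not_dvd_index
  have hderle : ⁅Q, Q⁆ ≤ N := by
    rw [commutator_le]
    intro a ha b hb
    rw [← QuotientGroup.eq_one_iff]
    show πN ⁅a, b⁆ = 1
    rw [map_commutatorElement, commutatorElement_eq_one_iff_mul_comm]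
    exact congrArg Subtype.val (hQbc.is_comm.comm
      (⟨πN a, mem_map_of_mem πN ha⟩ : Q.map πN) ⟨πN b, mem_map_of_mem πN hb⟩)
  have hder : ⁅Q, Q⁆ = N := by
    refine (hmin _ inferInstance hderle).resolve_left fun h => ?_
    refine not_rho_of_sylow QS hQn ⟨⟨fun a b => Subtype.ext ?_⟩⟩ hρq
    have h1 : ⁅(a : G), (b : G)⁆ = 1 := mem_bot.1 (h ▸ commutator_mem_commutator a.2 b.2)
    exact commutatorElement_eq_one_iff_mul_comm.1 h1
  have hcent : ∀ n ∈ N, ∀ a ∈ Q, a * n = n * a := by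
    haveI := hQ.isNilpotent
    set Z : Subgroup G := N ⊓ (center Q).map Q.subtype with hZ
    have hZne : Z ≠ ⊥ := by
      intro hb
      refine nilpotent_inf_center_ne_bot (N.subgroupOf Q) (fun h => hN ?_) ?_
      · rw [← subgroupOf_map_subtype N Q |>.trans (inf_of_le_left hNQ), h, Subgroup.map_bot]
      · refine (eq_bot_iff_forall _).2 fun x hx => Subtype.ext (mem_bot.1 (hb ▸ ?_))
        exact mem_inf.2 ⟨(mem_inf.1 hx).1, mem_map_of_mem _ (mem_inf.1 hx).2⟩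
    have hZN : Z = N := (hmin Z inferInstance inf_le_left).resolve_left hZne
    intro n hn a ha
    obtain ⟨z, hz, rfl⟩ := (mem_inf.1 (hZN.symm ▸ hn : n ∈ Z)).2
    exact congrArg Subtype.val (mem_center_iff.1 hz ⟨a, ha⟩)
  have hdN : ∀ m ∈ Q, dual N m = 1 := fun m hm => MulEquiv.ext fun f => MonoidHom.ext fun n => by
    rw [dual_apply, MulAut.one_apply]
    exact congrArg f (Subtype.ext (by
      show m⁻¹ * (n : G) * m = n
      rw [mul_assoc, ← hcent n n.2 m hm, inv_mul_cancel_left]))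
  have hdQ : ∀ m ∈ Q, dual Q m = 1 := fun m hm => MulEquiv.ext fun f => MonoidHom.ext fun n => by
    rw [dual_apply, MulAut.one_apply]
    rw [show (⟨m⁻¹ * (n : G) * m, _⟩ : Q) = (⟨m, hm⟩ : Q)⁻¹ * n * ⟨m, hm⟩ from Subtype.ext rfl,
      map_mul, map_mul, map_inv, mul_right_comm, inv_mul_cancel, one_mul]
  set φN := dualQ Q N hdN
  set φQ := dualQ Q Q hdQ
  have hover : ∀ f : N →* ℂˣ, f ≠ 1 → ∀ χ : IrrCharacter G,
      classInner (fun n : N => (χ : G → ℂ) n) (linIrr f : N → ℂ) ≠ 0 →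
        q ∣ charDegree (χ : G → ℂ) := fun f hf χ hχ => dvd_degree_of_derived Q hQ N hder.ge f hf χ hχ
  have hfix : ∀ t : ℕ, ∀ _ : Fact t.Prime, q ≠ t → ¬ Adj G q t →
      UniqueFixAb (V := N →* ℂˣ) φN t := by
    intro t ht hqt nqt f hf
    obtain ⟨θ, hθ, hI⟩ := exists_invariant_over Q hQ hidx N hNQ hcent
      (fun a ha b hb => hderle (commutator_mem_commutator ha hb)) f
    obtain ⟨φ, hφ⟩ := exists_extension_coprime Q hQ hidx θ
    obtain ⟨P, h1, h2, h3⟩ := stab_structure Q θ φ hφ (p := t) fun χ hχ hd => by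
      have h4 := Char.RealPPrime.classInner_comp_ne_zero (inclusion hNQ)
        (Char.isCharacter_comp (Char.isCharacter_irr χ) Q.subtype) θ hχ
        (Char.isCharacter_of_isIrr (linIrr f).2) hθ
      exact nqt ⟨χ, ((Nat.coprime_primes hq.out ht.out).2 hqt).mul_dvd_of_dvd_of_dvd
        (hover f hf χ h4) hd⟩
    obtain ⟨e1, e2⟩ := fix_of_stab Q N hdN f hI P h1 h2
    exact ⟨P, e1, e2, h3⟩
  have hfp := hfix p hp hqp nqp
  have hfr := hfix r hr hqr nqr
  letI : CommGroup N := { (inferInstance : Group N) with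
    mul_comm := fun a b => Subtype.ext (hc a a.2 b b.2) }
  haveI hV : Nontrivial (N →* ℂˣ) := by
    haveI : Nontrivial N := (nontrivial_iff_ne_bot N).2 hN
    rw [← Finite.one_lt_card_iff_nontrivial, CommGroup.card_monoidHom_of_hasEnoughRootsOfUnity N ℂ]
    exact Finite.one_lt_card
  -- a prime acting trivially on `N`
  have hker : ∀ t : ℕ, ∀ _ : Fact t.Prime, q ≠ t → UniqueFixAb (V := N →* ℂˣ) φN t →
      Rho (G ⧸ N) t → ¬ t ∣ Nat.card φN.range → ∃ P : Sylow t (G ⧸ Q),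
        (P : Subgroup (G ⧸ Q)).Normal ∧ (∀ x ∈ (P : Subgroup (G ⧸ Q)), φN x = 1) ∧
        ∃ μ : Q →* ℂˣ, ∃ x ∈ (P : Subgroup (G ⧸ Q)), φQ x μ ≠ μ := by
    intro t ht hqt hft hρt hnd
    obtain ⟨PS⟩ : Nonempty (Sylow t G) := inferInstance
    set πQ := QuotientGroup.mk' Q
    set P := PS.mapSurjective (QuotientGroup.mk'_surjective Q) with hPdef
    obtain ⟨hPn, hPc⟩ := UniqueFixAb.sylow_of_not_dvd (V := N →* ℂˣ) hft hV hnd P
    refine ⟨P, hPn, fun x hx => sylow_le_of_not_dvd_index φN.ker (by rwa [index_ker]) P hx, ?_⟩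
    by_contra hh
    push Not at hh
    rw [Sylow.coe_mapSurjective] at hPn hPc
    have hPQ : ∀ x ∈ (PS : Subgroup G), x ∈ Q → x = 1 := by
      intro x hx hx'
      obtain ⟨i, hi⟩ := IsPGroup.iff_card.1 PS.2
      obtain ⟨j, hj⟩ := IsPGroup.iff_card.1 hQ
      have h := inf_eq_bot_of_coprime (show (Nat.card (PS : Subgroup G)).Coprime (Nat.card Q) by
        rw [hi, hj]; exact Nat.Coprime.pow _ _ ((Nat.coprime_primes ht.out hq.out).2 hqt.symm))
      exact mem_bot.1 (h ▸ mem_inf.2 ⟨hx, hx'⟩)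
    have hPcomm := comm_of_map_injective πQ (PS : Subgroup G)
      (fun x hx h => hPQ x hx ((QuotientGroup.eq_one_iff x).1 h)) hPc
    have hPSQ : ∀ g ∈ (PS : Subgroup G), ∀ c ∈ Q, g * c * g⁻¹ * c⁻¹ ∈ N := by
      intro g hg c hcQ
      rw [← hder]
      refine mem_of_forall_lin Q ⟨g * c * g⁻¹ * c⁻¹, mul_mem (hQn.conj_mem c hcQ g) (inv_mem hcQ)⟩
        fun μ => ?_
      have h1 := DFunLike.congr_fun (hh μ (πQ g⁻¹) (mem_map_of_mem πQ (inv_mem hg))) ⟨c, hcQ⟩
      rw [dualQ_mk, dual_apply] at h1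
      rw [show (⟨g * c * g⁻¹ * c⁻¹, _⟩ : Q) =
        ⟨g * c * g⁻¹, hQn.conj_mem c hcQ g⟩ * (⟨c, hcQ⟩ : Q)⁻¹ from Subtype.ext rfl,
        map_mul, map_inv, mul_inv_eq_one, ← h1]
      exact congrArg μ (Subtype.ext (by simp))
    set PN := PS.mapSurjective (QuotientGroup.mk'_surjective N) with hPN
    refine not_rho_of_sylow PN ?_ ?_ hρt
    · haveI hR : (((PS : Subgroup G) ⊔ Q).map πN).Normal := by
        refine Subgroup.Normal.map ?_ πN (QuotientGroup.mk'_surjective N)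
        have h := hPn.comap πQ
        rwa [comap_map_eq, QuotientGroup.ker_mk'] at h
      have hle : ((PS : Subgroup G) ⊔ Q).map πN ≤
          normalizer ((PN : Subgroup (G ⧸ N)) : Set (G ⧸ N)) := by
        rw [Sylow.coe_mapSurjective, Subgroup.map_sup]
        refine sup_le le_normalizer ?_
        rintro _ ⟨c, hcQ, rfl⟩
        refine centralizer_le_normalizer _ (mem_centralizer_iff.2 ?_)
        rintro _ ⟨g, hg, rfl⟩
        rw [← mul_inv_eq_one, ← map_mul, ← map_mul, ← map_inv, ← map_mul, mul_inv_rev,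
          show g * c * (g⁻¹ * c⁻¹) = g * c * g⁻¹ * c⁻¹ by group]
        exact (QuotientGroup.eq_one_iff _).2 (hPSQ g hg c hcQ)
      refine ⟨fun y hy g => ?_⟩
      have h2 : ((g • PN : Sylow t (G ⧸ N)) : Subgroup (G ⧸ N)) ≤
          normalizer ((PN : Subgroup (G ⧸ N)) : Set (G ⧸ N)) := by
        intro x hx
        refine hle ?_
        rw [Sylow.coe_subgroup_smul, mem_pointwise_smul_iff_inv_smul_mem] at hx
        have h3 : g⁻¹ * x * g ∈ (PN : Subgroup (G ⧸ N)) := by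
          simpa [MulAut.smul_def, mul_assoc] using hx
        have h4 := hR.conj_mem _ (show g⁻¹ * x * g ∈ ((PS : Subgroup G) ⊔ Q).map πN by
          rw [Sylow.coe_mapSurjective] at h3
          exact map_mono le_sup_left h3) g
        simpa [mul_assoc] using h4
      have h5 := eq_of_le_normalizer PN (g • PN) h2
      have h6 : g * y * g⁻¹ ∈ ((g • PN : Sylow t (G ⧸ N)) : Subgroup (G ⧸ N)) := by
        rw [Sylow.coe_subgroup_smul, mem_pointwise_smul_iff_inv_smul_mem]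
        simpa [MulAut.smul_def, mul_assoc] using hy
      rwa [h5] at h6
    · rw [Sylow.coe_mapSurjective]
      refine ⟨⟨fun a b => Subtype.ext ?_⟩⟩
      obtain ⟨a', ha', hae⟩ := a.2
      obtain ⟨b', hb', hbe⟩ := b.2
      show (a : G ⧸ N) * b = b * a
      rw [← hae, ← hbe, ← map_mul, ← map_mul, hPcomm a' ha' b' hb']
  by_cases hpd : p ∣ Nat.card φN.range
  · by_cases hrd : r ∣ Nat.card φN.range
    · exact npr (adj_of_unique Q N hN hc hmin hq.out hexp hdN hpr hfp hfr hpd hrd)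
    · obtain ⟨R, hRn, hRN, hRQ⟩ := hker r hr hqr hfr hρr hrd
      exact mixed_case Q hQ hidx N hc hder hcent hdN hdQ hpr.symm hqr nqr
        (fun h => npr h.symm) R hRn hRN hRQ hfp hpd
  · obtain ⟨P, hPn, hPN, hPQ⟩ := hker p hp hqp hfp hρp hpd
    by_cases hrd : r ∣ Nat.card φN.range
    · exact mixed_case Q hQ hidx N hc hder hcent hdN hdQ hpr hqp nqp npr P hPn hPN hPQ hfr hrd
    · obtain ⟨R, hRn, -, hRQ⟩ := hker r hr hqr hfr hρr hrd
      obtain ⟨μ1, x1, hx1, h1⟩ := hPQ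
      obtain ⟨μ2, x2, hx2, h2⟩ := hRQ
      obtain ⟨μ, hμp, hμr⟩ : ∃ μ : Q →* ℂˣ, (∃ x ∈ (P : Subgroup (G ⧸ Q)), φQ x μ ≠ μ) ∧
          ∃ x ∈ (R : Subgroup (G ⧸ Q)), φQ x μ ≠ μ := by
        by_contra hh
        push Not at hh
        have e1 : φQ x2 μ1 = μ1 := hh μ1 ⟨x1, hx1, h1⟩ x2 hx2
        have e2 : φQ x1 μ2 = μ2 := by
          by_contra he
          exact h2 (hh μ2 ⟨x1, hx1, he⟩ x2 hx2)
        have e3 : φQ x1 (μ1 * μ2) ≠ μ1 * μ2 := by
          rw [map_mul, e2]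
          exact fun he => h1 (mul_right_cancel he)
        have e4 := hh (μ1 * μ2) ⟨x1, hx1, e3⟩ x2 hx2
        rw [map_mul, e1] at e4
        exact h2 (mul_left_cancel e4)
      obtain ⟨χ, hχ⟩ := Block.ItoMichler.exists_irr_over Q (linIrr μ)
      exact npr ⟨χ, ((Nat.coprime_primes hp.out hr.out).2 hpr).mul_dvd_of_dvd_of_dvd
        (dvd_degree_of_moved Q hdQ P hPn μ hμp χ hχ) (dvd_degree_of_moved Q hdQ R hRn μ hμr χ hχ)⟩

/-- **Pálfy's three primes theorem.** -/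
theorem three_primes : ∀ (G : Type u) [Group G] [Finite G] [Group.IsSolvable G] (p q r : ℕ),
    p.Prime → q.Prime → r.Prime → p ≠ q → q ≠ r → p ≠ r → Rho G p → Rho G q → Rho G r →
      Adj G p q ∨ Adj G q r ∨ Adj G p r := by
  intro G _ _ _
  induction hn : Nat.card G using Nat.strong_induction_on generalizing G with
  | _ m ih =>
  subst hn
  intro p q r hp hq hr hpq hqr hpr Hp Hq Hr
  haveI := Fintype.ofFinite G
  rcases subsingleton_or_nontrivial G with hs | hnt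
  · exfalso
    obtain ⟨χ, hχ⟩ := Hp
    have h1 : (χ : G → ℂ) 1 = 1 :=
      Char.degree_one_of_comm (fun a b => Subsingleton.elim _ _) χ
    rw [charDegree_of_one (d := 1) (by rw [h1, Nat.cast_one])] at hχ
    exact hp.not_dvd_one hχ
  obtain ⟨N, hNn, hN, -, hmin⟩ := exists_minimal_normal_le (N := (⊤ : Subgroup G)) top_ne_bot
  haveI := hNn
  obtain ⟨hc, s, hs, hexp⟩ := minimal_normal_solvable hN hmin
  haveI := Fact.mk hs
  haveI := Fact.mk hp
  haveI := Fact.mk hq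
  haveI := Fact.mk hr
  haveI : Group.IsSolvable (G ⧸ N) :=
    Group.isSolvable_of_surjective (QuotientGroup.mk'_surjective N)
  by_cases hall : Rho (G ⧸ N) p ∧ Rho (G ⧸ N) q ∧ Rho (G ⧸ N) r
  · have hlt : Nat.card (G ⧸ N) < Nat.card G := by
      rw [card_eq_card_quotient_mul_card_subgroup N]
      exact lt_mul_of_one_lt_right Nat.card_pos (one_lt_card_iff_ne_bot N |>.mpr hN)
    have hs' := QuotientGroup.mk'_surjective N
    exact (ih _ hlt (G ⧸ N) rfl p q r hp hq hr hpq hqr hpr hall.1 hall.2.1 hall.2.2).imp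
      (fun h => h.of_surjective hs') (fun h => h.imp (fun h => h.of_surjective hs')
        fun h => h.of_surjective hs')
  by_contra hno
  push Not at hno
  obtain ⟨n1, n2, n3⟩ := hno
  have key : ∀ a b c : ℕ, ∀ _ : Fact a.Prime, ∀ _ : Fact b.Prime, ∀ _ : Fact c.Prime, a ≠ s →
      a ≠ b → a ≠ c → b ≠ c → Rho G a → Rho G b → Rho G c → ¬ Adj G a b → ¬ Adj G a c →
      ¬ Adj G b c → Rho (G ⧸ N) a := fun a b c fa fb fc has hab hac hbc Ha Hb Hc m1 m2 m3 =>
    by_contra fun hmiss =>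
      case_one N hN hc hmin hs hexp has hab hac hbc Ha Hb Hc hmiss m1 m2 m3
  have kp : p ≠ s → Rho (G ⧸ N) p := fun h =>
    key p q r ⟨hp⟩ ⟨hq⟩ ⟨hr⟩ h hpq hpr hqr Hp Hq Hr n1 n3 n2
  have kq : q ≠ s → Rho (G ⧸ N) q := fun h =>
    key q p r ⟨hq⟩ ⟨hp⟩ ⟨hr⟩ h hpq.symm hqr hpr Hq Hp Hr (fun e => n1 e.symm) n2 n3
  have kr : r ≠ s → Rho (G ⧸ N) r := fun h =>
    key r p q ⟨hr⟩ ⟨hp⟩ ⟨hq⟩ h hpr.symm hqr.symm hpq Hr Hp Hq (fun e => n3 e.symm)
      (fun e => n2 e.symm) n1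
  by_cases hps : p = s
  · subst hps
    exact case_two N hN hc hmin hexp hpq hpr hqr Hp (fun h => hall ⟨h, kq hpq.symm, kr hpr.symm⟩)
      (kq hpq.symm) (kr hpr.symm) n1 n3 n2
  by_cases hqs : q = s
  · subst hqs
    exact case_two N hN hc hmin hexp hpq.symm hqr hpr Hq (fun h => hall ⟨kp hpq, h, kr hqr.symm⟩)
      (kp hpq) (kr hqr.symm) (fun e => n1 e.symm) n2 n3
  by_cases hrs : r = s
  · subst hrs
    exact case_two N hN hc hmin hexp hpr.symm hqr.symm hpq Hr (fun h => hall ⟨kp hps, kq hqs, h⟩)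
      (kp hps) (kq hqs) (fun e => n3 e.symm) (fun e => n2 e.symm) n1
  exact hall ⟨kp hps, kq hqs, kr hrs⟩

end CfsgLib.DegComp.Palfy
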