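import Cfsg.Agent.Lib.DegComp.Palfy.Invariant

/-!
# Tools for a normal nonabelian Sylow subgroup with minimal derived group
-/

set_option autoImplicit false
set_option linter.style.haveILetI false
set_option linter.unusedSectionVars false

namespace CfsgLib.DegComp.Palfy

open CfsgLib.Coprime
open Subgroup Cfsg
open scoped commutatorElement

universe u

/-- A normal subgroup of index prime to `t` contains every Sylow subgroup; a subgroup contains one. -/
theorem exists_sylow_le {X : Type u} [Group X] [Finite X] {t : ℕ} [ht : Fact t.Prime] (S : Subgroup X)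
    (h : ¬ t ∣ S.index) : ∃ P : Sylow t X, (P : Subgroup X) ≤ S := by
  obtain ⟨P0⟩ : Nonempty (Sylow t S) := inferInstance
  have hidx : ¬ t ∣ ((P0 : Subgroup S).map S.subtype).index := by
    rw [← relIndex_mul_index (map_subtype_le (P0 : Subgroup S)), relIndex, subgroupOf,
      comap_map_eq_self_of_injective S.subtype_injective]
    exact fun h' => (ht.out.dvd_mul.1 h').elim P0.not_dvd_index h
  exact ⟨(P0.2.map S.subtype).toSylow hidx, by
    rw [IsPGroup.toSylow_coe]; exact map_subtype_le _⟩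

/-- A normal Sylow subgroup is the only one. -/
theorem sylow_eq_of_normal {X : Type u} [Group X] [Finite X] {t : ℕ} [Fact t.Prime] (P Q : Sylow t X)
    (hn : (P : Subgroup X).Normal) : Q = P :=
  eq_of_le_normalizer P Q (by haveI := hn; rw [normalizer_eq_top]; exact le_top)

/-- The same Sylow count for two actions forces equal cardinalities. -/
theorem pow_eq_of_count {q n a b e m : ℕ} (hq : q.Prime) (h1 : n * (q ^ a - 1) = q ^ e - 1)
    (h2 : n * (q ^ b - 1) = q ^ m - 1) (hae : a < e) (hbm : b < m) : q ^ e = q ^ m := by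
  have key : ∀ a e : ℕ, n * (q ^ a - 1) = q ^ e - 1 → a < e →
      q ^ a ∣ n - 1 ∧ ¬ q ^ (a + 1) ∣ n - 1 := by
    intro a e h hae
    have hqe : 1 < q ^ e := Nat.one_lt_pow (by omega) hq.one_lt
    have hqa : 2 ≤ q ^ a := by
      by_contra hh
      have : q ^ a - 1 = 0 := by omega
      rw [this, mul_zero] at h
      omega
    obtain ⟨A, hA⟩ : ∃ A, q ^ a = A + 1 := ⟨q ^ a - 1, by omega⟩
    obtain ⟨d, rfl⟩ : ∃ d, e = a + (d + 1) := ⟨e - a - 1, by omega⟩
    obtain ⟨B, hB⟩ : ∃ B, q ^ (d + 1) = B + 1 :=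
      ⟨q ^ (d + 1) - 1, by have := Nat.one_le_pow (d + 1) q hq.pos; omega⟩
    obtain ⟨k, rfl⟩ : ∃ k, n = k + 1 := ⟨n - 1, by
      rcases Nat.eq_zero_or_pos n with rfl | hn
      · rw [zero_mul] at h; omega
      · omega⟩
    have hk : k * A = q ^ a * B := by
      rw [hA, Nat.add_sub_cancel, pow_add, hB, hA] at h
      rw [hA]
      have h' : (A + 1) * (B + 1) - 1 = A + (A + 1) * B := by
        rw [Nat.mul_succ]; omega
      rw [h', Nat.succ_mul] at h
      omega
    have hAq : ¬ q ∣ A := by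
      intro hd
      have : q ∣ A + 1 := hA ▸ dvd_pow_self q (fun h0 => by rw [h0, pow_zero] at hqa; omega)
      exact hq.not_dvd_one ((Nat.dvd_add_right hd).1 this)
    have hcop : (q ^ a).Coprime A := (hq.coprime_iff_not_dvd.2 hAq).pow_left a
    have hdvd : q ^ a ∣ k := hcop.dvd_of_dvd_mul_right (hk ▸ dvd_mul_right _ _)
    obtain ⟨j, rfl⟩ := hdvd
    have hjA : j * A = B := Nat.eq_of_mul_eq_mul_left (pow_pos hq.pos a) (by rw [← mul_assoc]; exact hk)
    refine ⟨by simp, fun hd => ?_⟩
    rw [Nat.add_sub_cancel, pow_succ] at hd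
    have hqj : q ∣ j := (Nat.mul_dvd_mul_iff_left (pow_pos hq.pos a)).1 hd
    have hqB : q ∣ B + 1 := hB ▸ dvd_pow_self q (by omega)
    exact hq.not_dvd_one ((Nat.dvd_add_right (hjA ▸ hqj.mul_right A)).1 hqB)
  obtain ⟨ha, ha'⟩ := key a e h1 hae
  obtain ⟨hb, hb'⟩ := key b m h2 hbm
  obtain rfl : a = b := by
    rcases lt_trichotomy a b with h | h | h
    · exact absurd ((pow_dvd_pow q h).trans hb) ha'
    · exact h
    · exact absurd ((pow_dvd_pow q h).trans ha) hb'
  have := Nat.one_le_pow e q hq.pos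
  have := Nat.one_le_pow m q hq.pos
  omega

/-- Linear characters separate modulo the derived subgroup. -/
theorem mem_of_forall_lin {G : Type u} [Group G] [Finite G] (Q : Subgroup G) (x : Q)
    (h : ∀ μ : Q →* ℂˣ, μ x = 1) : (x : G) ∈ ⁅Q, Q⁆ := by
  by_contra hx
  have hne : Abelianization.of x ≠ 1 := by
    intro e
    refine hx ?_
    rw [← map_subtype_commutator]
    refine mem_map_of_mem _ ?_
    rw [← Abelianization.ker_of]
    exact e
  obtain ⟨μ, hμ⟩ := CommGroup.exists_apply_ne_one_of_hasEnoughRootsOfUnity (Abelianization Q) ℂ hne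
  exact hμ (h (μ.comp Abelianization.of))

/-- A linear character kills the derived subgroup. -/
theorem lin_commutator {G : Type u} [Group G] {Q : Subgroup G} (μ : Q →* ℂˣ) (x : Q)
    (hx : (x : G) ∈ ⁅Q, Q⁆) : μ x = 1 := by
  rw [← map_subtype_commutator] at hx
  obtain ⟨y, hy, hyx⟩ := hx
  obtain rfl : y = x := Subtype.ext hyx
  exact Abelianization.commutator_subset_ker μ hy

/-- Restriction of an action to an invariant subgroup. -/
def restrictAut {X : Type u} [Group X] {V : Type u} [CommGroup V] (φ : X →* MulAut V) (D : Subgroup V)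
    (hD : ∀ x, ∀ v ∈ D, φ x v ∈ D) : X →* MulAut D where
  toFun x :=
    { toFun := fun v => ⟨φ x v, hD x v v.2⟩
      invFun := fun v => ⟨φ x⁻¹ v, hD x⁻¹ v v.2⟩
      left_inv := fun v => Subtype.ext (by
        show φ x⁻¹ (φ x v) = v
        rw [← MulAut.mul_apply, ← map_mul, inv_mul_cancel, map_one]; rfl)
      right_inv := fun v => Subtype.ext (by
        show φ x (φ x⁻¹ v) = v
        rw [← MulAut.mul_apply, ← map_mul, mul_inv_cancel, map_one]; rfl)
      map_mul' := fun v w => Subtype.ext (map_mul (φ x) _ _) }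
  map_one' := MulEquiv.ext fun v => Subtype.ext (by
    show φ 1 (v : V) = v
    rw [map_one]; rfl)
  map_mul' x y := MulEquiv.ext fun v => Subtype.ext (by
    show φ (x * y) (v : V) = φ x (φ y v)
    rw [map_mul]; rfl)

theorem restrictAut_apply {X : Type u} [Group X] {V : Type u} [CommGroup V] (φ : X →* MulAut V)
    (D : Subgroup V) (hD : ∀ x, ∀ v ∈ D, φ x v ∈ D) (x : X) (v : D) :
    ((restrictAut φ D hD x v : D) : V) = φ x v := rfl

/-- Elementwise abelian subgroup. -/
theorem comm_of_map_injective {G X : Type u} [Group G] [Group X] (π : G →* X) (P : Subgroup G)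
    (hinj : ∀ x ∈ P, π x = 1 → x = 1) (hc : IsMulCommutative (P.map π)) :
    ∀ a ∈ P, ∀ b ∈ P, a * b = b * a := by
  intro a ha b hb
  have h1 : π (a * b * (b * a)⁻¹) = 1 := by
    rw [map_mul, map_inv, mul_inv_eq_one, map_mul, map_mul]
    exact congrArg Subtype.val (hc.is_comm.comm (⟨π a, mem_map_of_mem π ha⟩ : P.map π)
      ⟨π b, mem_map_of_mem π hb⟩)
  exact mul_inv_eq_one.1 (hinj _ (mul_mem (mul_mem ha hb) (inv_mem (mul_mem hb ha))) h1)

end CfsgLib.DegComp.Palfy
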