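import Cfsg.Agent.Lib.DegComp.Palfy.Stabilizer

/-!
# The action on the linear characters of a normal subgroup
-/

set_option autoImplicit false
set_option linter.style.haveILetI false
set_option linter.unusedSectionVars false

namespace CfsgLib.DegComp.Palfy

open CfsgLib.Coprime
open Subgroup Cfsg

universe u

variable {G : Type u} [Group G] [Finite G]

/-- Automorphisms of a commutative group, with the multiplication of its group structure. -/
abbrev AutC (V : Type u) [CommGroup V] := MulAut V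

/-- Conjugation on linear characters of a normal subgroup. -/
noncomputable def dual (N : Subgroup G) [N.Normal] : G →* AutC (N →* ℂˣ) where
  toFun g :=
    { toFun := fun f => f.comp (MulAut.conjNormal (H := N) g⁻¹).toMonoidHom
      invFun := fun f => f.comp (MulAut.conjNormal (H := N) g).toMonoidHom
      left_inv := fun f => MonoidHom.ext fun n => congrArg f (Subtype.ext (by simp [mul_assoc]))
      right_inv := fun f => MonoidHom.ext fun n => congrArg f (Subtype.ext (by simp [mul_assoc]))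
      map_mul' := fun f f' => MonoidHom.ext fun n => rfl }
  map_one' := MulEquiv.ext fun f => MonoidHom.ext fun n => congrArg f (Subtype.ext (by simp))
  map_mul' a b := MulEquiv.ext fun f => MonoidHom.ext fun n =>
    congrArg f (Subtype.ext (by simp [mul_assoc]))

theorem dual_apply (N : Subgroup G) [N.Normal] (g : G) (f : N →* ℂˣ) (n : N) :
    dual N g f n = f ⟨g⁻¹ * (n : G) * g, by
      simpa using (inferInstance : N.Normal).conj_mem (n : G) n.2 g⁻¹⟩ :=
  congrArg f (Subtype.ext (by simp))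

/-- The stabilizer of a linear character is its inertia group. -/
theorem dual_eq_iff (N : Subgroup G) [N.Normal] (g : G) (f : N →* ℂˣ) :
    dual N g f = f ↔ g ∈ Char.inertia N fun n => (f n : ℂ) := by
  rw [← inv_mem_iff (H := Char.inertia N _), Char.mem_inertia]
  refine ⟨fun h => funext fun n => ?_, fun h => MonoidHom.ext fun n => Units.ext ?_⟩
  · conv_rhs => rw [← h]
    rfl
  · exact congrFun h n

/-- The action of a quotient acting trivially. -/
noncomputable def dualQ (M N : Subgroup G) [M.Normal] [N.Normal] (h : ∀ m ∈ M, dual N m = 1) :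
    G ⧸ M →* AutC (N →* ℂˣ) :=
  QuotientGroup.lift M (dual N) fun m hm => MonoidHom.mem_ker.2 (h m hm)

theorem dualQ_mk (M N : Subgroup G) [M.Normal] [N.Normal] (h : ∀ m ∈ M, dual N m = 1) (g : G) :
    dualQ M N h (QuotientGroup.mk' M g) = dual N g := rfl

/-- Unique fixing with an abelian Sylow subgroup. -/
def UniqueFixAb {X : Type u} [Group X] {V : Type u} [CommGroup V] (φ : X →* MulAut V) (p : ℕ) :
    Prop :=
  ∀ v : V, v ≠ 1 → ∃ P : Sylow p X, (∀ x ∈ (P : Subgroup X), φ x v = v) ∧
    (∀ x : X, φ x v = v → x ∈ normalizer ((P : Subgroup X) : Set X)) ∧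
    IsMulCommutative (P : Subgroup X)

theorem UniqueFixAb.uniqueFix {X : Type u} [Group X] {V : Type u} [CommGroup V]
    {φ : X →* MulAut V} {p : ℕ} (h : UniqueFixAb φ p) : UniqueFix φ p := fun v hv =>
  let ⟨P, h1, h2, _⟩ := h v hv
  ⟨P, h1, h2⟩

/-- Passing from the stabilizer data to unique fixing. -/
theorem fix_of_stab (M N : Subgroup G) [M.Normal] [N.Normal] (h : ∀ m ∈ M, dual N m = 1) {p : ℕ}
    (f : N →* ℂˣ) {J : Subgroup G} (hJ : J = Char.inertia N fun n => (f n : ℂ))
    (P : Sylow p (G ⧸ M)) (h1 : (P : Subgroup (G ⧸ M)) ≤ J.map (QuotientGroup.mk' M))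
    (h2 : J.map (QuotientGroup.mk' M) ≤ normalizer ((P : Subgroup (G ⧸ M)) : Set (G ⧸ M))) :
    (∀ x ∈ (P : Subgroup (G ⧸ M)), dualQ M N h x f = f) ∧
      ∀ x, dualQ M N h x f = f → x ∈ normalizer ((P : Subgroup (G ⧸ M)) : Set (G ⧸ M)) := by
  subst hJ
  refine ⟨fun x hx => ?_, fun x hx => h2 ?_⟩
  · obtain ⟨g, hg, rfl⟩ := h1 hx
    rw [dualQ_mk, dual_eq_iff]
    exact hg
  · obtain ⟨g, rfl⟩ := QuotientGroup.mk'_surjective M x
    rw [dualQ_mk, dual_eq_iff] at hx
    exact ⟨g, hx, rfl⟩

section Action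

variable {X : Type u} [Group X] [Finite X] {V : Type u} [CommGroup V] [Finite V]
  {φ : X →* MulAut V} {p : ℕ} [Fact p.Prime]

/-- If the image has order prime to `p`, the Sylow subgroups are normal and abelian. -/
theorem UniqueFixAb.sylow_of_not_dvd (h : UniqueFixAb φ p) (hV : Nontrivial V)
    (hp : ¬ p ∣ Nat.card φ.range) (P : Sylow p X) :
    (P : Subgroup X).Normal ∧ IsMulCommutative (P : Subgroup X) := by
  have hle : ∀ Q : Sylow p X, (Q : Subgroup X) ≤ φ.ker :=
    sylow_le_of_not_dvd_index φ.ker (by rwa [index_ker])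
  obtain ⟨v, hv⟩ := exists_ne (1 : V)
  obtain ⟨P0, -, h2, h3⟩ := h v hv
  have hall : ∀ Q : Sylow p X, Q = P0 := fun Q => eq_of_le_normalizer P0 Q fun x hx =>
    h2 x (by rw [show φ x = 1 from hle Q hx]; rfl)
  rw [hall P]
  refine ⟨⟨fun y hy g => ?_⟩, h3⟩
  have h4 : g * y * g⁻¹ ∈ ((g • P0 : Sylow p X) : Subgroup X) := by
    rw [Sylow.coe_subgroup_smul, mem_pointwise_smul_iff_inv_smul_mem]
    simpa [MulAut.smul_def, mul_assoc] using hy
  rwa [hall (g • P0)] at h4

/-- Unique fixing passes to the image. -/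
theorem UniqueFix.range (h : UniqueFix φ p) : UniqueFix φ.range.subtype p := by
  intro v hv
  obtain ⟨P, h1, h2⟩ := h v hv
  refine ⟨P.mapSurjective φ.rangeRestrict_surjective, ?_, ?_⟩
  · rw [Sylow.coe_mapSurjective]
    rintro _ ⟨x, hx, rfl⟩
    exact h1 x hx
  · rintro ⟨_, x, rfl⟩ hy
    rw [Sylow.coe_mapSurjective]
    exact le_normalizer_map φ.rangeRestrict ⟨x, h2 x hy, rfl⟩

end Action

/-- A proper invariant family of linear characters cuts out a proper normal subgroup. -/
theorem dual_irreducible (N : Subgroup G) [N.Normal] (hc : ∀ a ∈ N, ∀ b ∈ N, a * b = b * a)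
    (hmin : ∀ K : Subgroup G, K.Normal → K ≤ N → K = ⊥ ∨ K = N) (U : Subgroup (N →* ℂˣ))
    (hU : ∀ g, ∀ f ∈ U, dual N g f ∈ U) : U = ⊥ ∨ U = ⊤ := by
  classical
  letI : CommGroup N := { (inferInstance : Group N) with
    mul_comm := fun a b => Subtype.ext (hc a a.2 b b.2) }
  let e : N →* (U →* ℂˣ) :=
    { toFun := fun n => ⟨⟨fun f => (f : N →* ℂˣ) n, rfl⟩, fun f f' => rfl⟩
      map_one' := MonoidHom.ext fun f => map_one (f : N →* ℂˣ)
      map_mul' := fun a b => MonoidHom.ext fun f => map_mul (f : N →* ℂˣ) a b }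
  set K : Subgroup G := e.ker.map N.subtype
  have hKn : K.Normal := by
    refine ⟨?_⟩
    rintro _ ⟨n, hn, rfl⟩ g
    refine ⟨⟨g * n * g⁻¹, (inferInstance : N.Normal).conj_mem n n.2 g⟩, ?_, rfl⟩
    refine MonoidHom.ext fun f => ?_
    have h1 := DFunLike.congr_fun hn ⟨dual N g⁻¹ f, hU g⁻¹ f f.2⟩
    show (f : N →* ℂˣ) _ = 1
    refine Eq.trans (congrArg _ (Subtype.ext ?_)) h1
    simp
  rcases hmin K hKn (map_subtype_le _) with h | h
  · right
    rw [map_eq_bot_iff_of_injective _ N.subtype_injective] at h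
    have hinj : Function.Injective e := (MonoidHom.ker_eq_bot_iff e).1 h
    have h1 : Nat.card N ≤ Nat.card (U →* ℂˣ) := Nat.card_le_card_of_injective e hinj
    rw [CommGroup.card_monoidHom_of_hasEnoughRootsOfUnity U ℂ,
      ← CommGroup.card_monoidHom_of_hasEnoughRootsOfUnity N ℂ] at h1
    exact eq_top_of_le_card _ h1
  · left
    refine (eq_bot_iff_forall _).2 fun f hf => MonoidHom.ext fun n => ?_
    obtain ⟨n', hn', he⟩ : (n : G) ∈ K := h.symm ▸ n.2
    obtain rfl : n' = n := Subtype.ext he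
    exact DFunLike.congr_fun hn' ⟨f, hf⟩

/-- The linear theorem applied to the dual of a minimal normal subgroup. -/
theorem adj_of_unique [Group.IsSolvable G] (M N : Subgroup G) [M.Normal] [N.Normal] (hN : N ≠ ⊥)
    (hc : ∀ a ∈ N, ∀ b ∈ N, a * b = b * a)
    (hmin : ∀ K : Subgroup G, K.Normal → K ≤ N → K = ⊥ ∨ K = N) {s : ℕ} (hs : s.Prime)
    (hexp : ∀ x ∈ N, x ^ s = 1) (h : ∀ m ∈ M, dual N m = 1) {p r : ℕ} [Fact p.Prime]
    [Fact r.Prime] (hpr : p ≠ r) (hp : UniqueFixAb (V := N →* ℂˣ) (dualQ M N h) p)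
    (hr : UniqueFixAb (V := N →* ℂˣ) (dualQ M N h) r) (hpd : p ∣ Nat.card (dualQ M N h).range)
    (hrd : r ∣ Nat.card (dualQ M N h).range) : Adj G p r := by
  classical
  haveI := Fact.mk hs
  letI : CommGroup N := { (inferInstance : Group N) with
    mul_comm := fun a b => Subtype.ext (hc a a.2 b b.2) }
  haveI : Finite (N →* ℂˣ) := inferInstance
  have hVexp : ∀ f : N →* ℂˣ, f ^ s = 1 := fun f => MonoidHom.ext fun n => by
    rw [MonoidHom.pow_apply, ← map_pow,
      show n ^ s = 1 from Subtype.ext (by simpa using hexp n n.2), map_one]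
    rfl
  obtain ⟨n, hn⟩ := IsPGroup.iff_card.1 (show IsPGroup s (N →* ℂˣ) from
    fun f => ⟨1, by rw [pow_one, hVexp]⟩)
  set X := (dualQ M N h).range
  have hset : Setting X.subtype s n :=
    { inj := X.subtype_injective
      prime := hs
      exp := hVexp
      card := hn
      irr := fun U hU => dual_irreducible N hc hmin U fun g f hf =>
        hU ⟨dual N g, ⟨QuotientGroup.mk' M g, dualQ_mk M N h g⟩⟩ f hf }
  haveI : Group.IsSolvable (G ⧸ M) :=
    Group.isSolvable_of_surjective (QuotientGroup.mk'_surjective M)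
  haveI : Group.IsSolvable X :=
    Group.isSolvable_of_surjective (dualQ M N h).rangeRestrict_surjective
  obtain ⟨χ, hχ⟩ := hset.exists_degree hpr hpd hrd hp.uniqueFix.range hr.uniqueFix.range
  exact Adj.of_surjective (f := (dualQ M N h).rangeRestrict.comp (QuotientGroup.mk' M))
    ((dualQ M N h).rangeRestrict_surjective.comp (QuotientGroup.mk'_surjective M)) ⟨χ, hχ⟩

end CfsgLib.DegComp.Palfy
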