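import Cfsg.Agent.Lib.DegComp.Palfy.Tools
import Cfsg.Agent.Lib.Char.ExtendCriteria
import Mathlib.GroupTheory.SchurZassenhaus

/-!
# An invariant extendible character over a central linear character
-/

set_option autoImplicit false
set_option linter.style.haveILetI false
set_option linter.unusedSectionVars false

namespace CfsgLib.DegComp.Palfy

open CfsgLib.Coprime
open Subgroup Cfsg

universe u

variable {G : Type u} [Group G] [Fintype G]

/-- An invariant character of a normal `q`-subgroup extends across a coprime index. -/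
theorem exists_extension_coprime {q : ℕ} [hq : Fact q.Prime] (Q : Subgroup G) [Q.Normal]
    (hQ : IsPGroup q Q) (hidx : ¬ q ∣ Q.index) [Fintype Q] (θ : IrrCharacter Q) :
    ∃ φ : IrrCharacter (Char.inertia Q (θ : Q → ℂ)),
      ∀ (n : Q) (h : (n : G) ∈ Char.inertia Q (θ : Q → ℂ)),
        (φ : Char.inertia Q (θ : Q → ℂ) → ℂ) ⟨(n : G), h⟩ = (θ : Q → ℂ) n := by
  classical
  set I := Char.inertia Q (θ : Q → ℂ) with hI
  have hQI : Q ≤ I := Char.le_inertia Q (Char.isClassFunction_irr θ)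
  set e := subgroupOfEquivOfLe hQI
  obtain ⟨d, ρ, hρ, hρc⟩ := Char.isIrrCharacter_comp_surjective θ.2 e.toMonoidHom e.surjective
  haveI := hρ
  have hinv : Char.IsInvariant (Q.subgroupOf I) ρ := by
    rw [Char.isInvariant_iff (Q.subgroupOf I) ρ hρc]
    intro g n
    exact congrFun ((Char.mem_inertia Q _ (g : G)).1 g.2) (e n)
  obtain ⟨j, hj⟩ := IsPGroup.iff_card.1 hQ
  have hcard : Nat.card (Q.subgroupOf I) = q ^ j := by rw [Nat.card_congr e.toEquiv, hj]
  have hd : d ∣ q ^ j := hcard ▸ Char.degree_dvd_card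
    (⟨_, d, ρ, hρ, rfl⟩ : IrrCharacter (Q.subgroupOf I)) (by
      show ρ.character 1 = _
      rw [Representation.char_one, Module.finrank_fin_fun])
  have ho : orderOf (Char.detHom ρ) ∣ q ^ j := by
    refine orderOf_dvd_of_pow_eq_one (MonoidHom.ext fun x => ?_)
    rw [MonoidHom.pow_apply, ← map_pow, ← hcard, pow_card_eq_one', map_one]
    rfl
  obtain ⟨φ, hφ, hres⟩ := Char.exists_char_of_rep (Q.subgroupOf I) ρ
    (Char.extends_of_sylow (Q.subgroupOf I) ρ hinv fun l hl h1 h2 => by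
      exfalso
      have hlq : l = q := by
        rcases hl.dvd_mul.1 h2 with h | h
        · exact (Nat.prime_dvd_prime_iff_eq hl hq.out).1 (hl.dvd_of_dvd_pow (h.trans hd))
        · exact (Nat.prime_dvd_prime_iff_eq hl hq.out).1 (hl.dvd_of_dvd_pow (h.trans ho))
      subst hlq
      exact hidx (h1.trans (relIndex_dvd_index_of_normal Q I)))
  refine ⟨⟨φ, hφ⟩, fun n h => ?_⟩
  have h1 := hres ⟨⟨(n : G), h⟩, n.2⟩
  rw [hρc] at h1
  exact h1

/-- Over a linear character of a central `N ≥ [Q, Q]` some character of `Q` has the same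
stabilizer. -/
theorem exists_invariant_over {q : ℕ} [hq : Fact q.Prime] (Q : Subgroup G) [Q.Normal]
    (hQ : IsPGroup q Q) (hidx : ¬ q ∣ Q.index) [Fintype Q] (N : Subgroup G) [N.Normal] [Fintype N]
    (hNQ : N ≤ Q) (hcent : ∀ n ∈ N, ∀ a ∈ Q, a * n = n * a)
    (hder : ∀ a ∈ Q, ∀ b ∈ Q, a * b * a⁻¹ * b⁻¹ ∈ N) (f : N →* ℂˣ) :
    ∃ θ : IrrCharacter Q,
      classInner (fun n : N => (θ : Q → ℂ) (inclusion hNQ n)) (linIrr f : N → ℂ) ≠ 0 ∧
      Char.inertia Q (θ : Q → ℂ) = Char.inertia N (linIrr f : N → ℂ) := by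
  classical
  set K := N.subgroupOf Q with hK
  haveI := Fintype.ofFinite K
  set e := subgroupOfEquivOfLe hNQ with he
  set fK : K →* ℂˣ := f.comp e.toMonoidHom
  have hKd : ∀ a b : Q, a * b * a⁻¹ * b⁻¹ ∈ K := fun a b => hder a a.2 b b.2
  -- transport between `N` and `K`
  have htr : ∀ θ : Q → ℂ, classInner (fun k : K => θ k) (linIrr fK : K → ℂ) =
      classInner (fun n : N => θ (inclusion hNQ n)) (linIrr f : N → ℂ) := by
    intro θ
    rw [← Char.classInner_equiv e (fun n : N => θ (inclusion hNQ n)) (linIrr f : N → ℂ)]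
    rfl
  -- the restriction is a multiple of `f`
  have hscal : ∀ θ : IrrCharacter Q,
      classInner (fun k : K => (θ : Q → ℂ) k) (linIrr fK : K → ℂ) ≠ 0 →
      ∀ n : N, (θ : Q → ℂ) (inclusion hNQ n) = (θ : Q → ℂ) 1 * (f n : ℂ) := by
    intro θ hθ
    have hset : {ψ : K → ℂ | ∃ g : Q, ψ = Char.conjFun K (linIrr fK : K → ℂ) g} =
        {(linIrr fK : K → ℂ)} := by
      ext ψ
      have hc : ∀ g : Q, Char.conjFun K (linIrr fK : K → ℂ) g = (linIrr fK : K → ℂ) := fun g =>
        funext fun k => congrArg (linIrr fK : K → ℂ) (Subtype.ext (Subtype.ext (by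
          show (g : G) * ((k : Q) : G) * (g : G)⁻¹ = ((k : Q) : G)
          exact mul_inv_eq_iff_eq_mul.2 (hcent ((k : Q) : G) k.2 (g : G) g.2))))
      simp only [Set.mem_setOf_eq, Set.mem_singleton_iff, hc, exists_const]
    have h1 := Char.clifford K θ.2 (linIrr fK).2 hθ
    rw [hset, finsum_mem_singleton] at h1
    intro n
    have h2 := congrFun h1 (e.symm n)
    have h3 := congrFun h1 1
    simp only [Pi.smul_apply, smul_eq_mul, linIrr_apply, OneMemClass.coe_one, map_one,
      Units.val_one, mul_one] at h2 h3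
    rw [h3]
    refine Eq.trans ?_ (h2.trans ?_)
    · exact congrArg (θ : Q → ℂ) (Subtype.ext rfl)
    · simp [fK]
  set T := Char.inertia N (linIrr f : N → ℂ) with hT
  have hQT : Q ≤ T := fun a ha => (dual_eq_iff N a f).1 (MonoidHom.ext fun n => by
    rw [dual_apply]
    exact congrArg f (Subtype.ext (by
      show a⁻¹ * (n : G) * a = n
      rw [mul_assoc, ← hcent n n.2 a ha, inv_mul_cancel_left])))
  obtain ⟨j, hj⟩ := IsPGroup.iff_card.1 hQ
  obtain ⟨H, hH⟩ := Subgroup.exists_right_complement'_of_coprime (N := Q)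
    (by rw [hj]; exact (hq.out.coprime_iff_not_dvd.2 hidx).pow_left j)
  set A : Subgroup G := T ⊓ H
  -- the set of characters over `f`
  let Ω := {θ : IrrCharacter Q // classInner (fun k : K => (θ : Q → ℂ) k) (linIrr fK : K → ℂ) ≠ 0}
  let Lam := Char.linearOver K
  letI : MulAction Lam Ω :=
    { smul := fun l θ => ⟨Char.linMul (l : Q →* ℂˣ) θ.1, by
        have e1 : (fun k : K => (Char.linMul (l : Q →* ℂˣ) θ.1 : Q → ℂ) k) =
            fun k : K => (θ.1 : Q → ℂ) k := funext fun k => by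
          show ((l : Q →* ℂˣ) (k : Q) : ℂ) * (θ.1 : Q → ℂ) k = _
          rw [l.2 k k.2, Units.val_one, one_mul]
        rw [e1]; exact θ.2⟩
      one_smul := fun θ => Subtype.ext (Subtype.ext (funext fun x => by
        show (((1 : Lam) : Q →* ℂˣ) x : ℂ) * (θ.1 : Q → ℂ) x = _
        simp))
      mul_smul := fun l l' θ => Subtype.ext (Subtype.ext (funext fun x => by
        show (((l * l' : Lam) : Q →* ℂˣ) x : ℂ) * (θ.1 : Q → ℂ) x =
          ((l : Q →* ℂˣ) x : ℂ) * (((l' : Q →* ℂˣ) x : ℂ) * (θ.1 : Q → ℂ) x)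
        simp [mul_assoc])) }
  have hpres : ∀ (a : A) (l : Lam), dual Q (a : G) (l : Q →* ℂˣ) ∈ Lam := fun a l k hk => by
    rw [dual_apply]
    refine l.2 _ ?_
    show (a : G)⁻¹ * (k : G) * a ∈ N
    simpa using (inferInstance : N.Normal).conj_mem _ hk (a : G)⁻¹
  let φA : A →* MulAut Lam :=
    { toFun := fun a =>
        { toFun := fun l => ⟨dual Q (a : G) (l : Q →* ℂˣ), hpres a l⟩
          invFun := fun l => ⟨dual Q ((a⁻¹ : A) : G) (l : Q →* ℂˣ), hpres a⁻¹ l⟩
          left_inv := fun l => Subtype.ext (by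
            show dual Q ((a⁻¹ : A) : G) (dual Q (a : G) (l : Q →* ℂˣ)) = l
            rw [← MulAut.mul_apply, ← map_mul, coe_inv, inv_mul_cancel, map_one]
            rfl)
          right_inv := fun l => Subtype.ext (by
            show dual Q (a : G) (dual Q ((a⁻¹ : A) : G) (l : Q →* ℂˣ)) = l
            rw [← MulAut.mul_apply, ← map_mul, coe_inv, mul_inv_cancel, map_one]
            rfl)
          map_mul' := fun l l' => Subtype.ext (map_mul (dual Q (a : G)) _ _) }
      map_one' := MulEquiv.ext fun l => Subtype.ext (by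
        show dual Q ((1 : A) : G) (l : Q →* ℂˣ) = l
        rw [coe_one, map_one]; rfl)
      map_mul' := fun a b => MulEquiv.ext fun l => Subtype.ext (by
        show dual Q ((a * b : A) : G) (l : Q →* ℂˣ) = _
        rw [coe_mul, map_mul]; rfl) }
  have hconj : ∀ (a : A) (θ : Ω),
      classInner (fun k : K => Char.conjFun Q (θ.1 : Q → ℂ) (a : G)⁻¹ k) (linIrr fK : K → ℂ) ≠ 0 := by
    intro a θ
    have h1 := θ.2
    rw [htr] at h1 ⊢
    let c : N ≃* N := MulAut.conjNormal (a : G)⁻¹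
    rw [← Char.classInner_equiv c] at h1
    convert h1 using 2
    · funext n
      exact congrArg (θ.1 : Q → ℂ) (Subtype.ext (by simp [c, Char.normalConjHom, mul_assoc]))
    · funext n
      have h2 := DFunLike.congr_fun ((dual_eq_iff N (a : G) f).2 (mem_inf.1 a.2).1) n
      rw [linIrr_apply, linIrr_apply, ← h2, dual_apply]
      exact congrArg (fun t => ((f t : ℂˣ) : ℂ)) (Subtype.ext (by simp [c]))
  let act : A → Ω → Ω := fun a θ =>
    ⟨⟨_, Char.isIrrCharacter_conjFun Q θ.1.2 (a : G)⁻¹⟩, hconj a θ⟩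
  obtain ⟨θ1, hθ1⟩ : ∃ θ : IrrCharacter Q,
      classInner (fun k : K => (θ : Q → ℂ) k) (linIrr fK : K → ℂ) ≠ 0 :=
    Block.ItoMichler.exists_irr_over K (linIrr fK)
  have hcopA : (Nat.card Lam).Coprime (Nat.card A) := by
    have h1 : Nat.card Lam = K.index := Char.card_linearOver K hKd
    have h2 : Nat.card A ∣ Q.index := by
      rw [(show Subgroup.IsComplement' H Q from Subgroup.IsComplement'.symm hH).index_eq_card]
      exact Subgroup.card_dvd_of_le inf_le_right
    rw [h1]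
    exact Nat.Coprime.coprime_dvd_left (index_dvd_card K)
      (hj ▸ Nat.Coprime.coprime_dvd_right h2 ((hq.out.coprime_iff_not_dvd.2 hidx).pow_left j))
  obtain ⟨θ0, hθ0⟩ := Char.exists_fixed_of_abelian_transitive (Ω := Ω) φA act
    (fun a b θ => Subtype.ext (Subtype.ext (funext fun x => by
      show (θ.1 : Q → ℂ) _ = (θ.1 : Q → ℂ) _
      exact congrArg _ (Subtype.ext (by simp [Char.normalConjHom, mul_assoc])))))
    (fun a l θ => Subtype.ext (Subtype.ext (funext fun x => by
      show ((l : Q →* ℂˣ) _ : ℂ) * (θ.1 : Q → ℂ) _ =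
        ((dual Q (a : G) (l : Q →* ℂˣ)) x : ℂ) * (θ.1 : Q → ℂ) _
      rw [dual_apply]
      congr 2
      exact congrArg (l : Q →* ℂˣ) (Subtype.ext (by simp [Char.normalConjHom, mul_assoc])))))
    (fun θ θ' => by
      obtain ⟨l, hl, hl'⟩ := Char.exists_linMul_eq K hKd θ.2 θ'.2
      exact ⟨⟨l, hl⟩, Subtype.ext hl'⟩)
    hcopA ⟨θ1, hθ1⟩
  refine ⟨θ0.1, by rw [← htr]; exact θ0.2, le_antisymm (fun g hg => ?_) (fun g hg => ?_)⟩
  · refine (Char.mem_inertia N _ g).2 (funext fun n => ?_)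
    have h1 := congrFun ((Char.mem_inertia Q _ g).1 hg) (inclusion hNQ n)
    have h2 := hscal θ0.1 θ0.2 (Char.normalConjHom N g n)
    have h3 := hscal θ0.1 θ0.2 n
    have h4 : (θ0.1 : Q → ℂ) (inclusion hNQ (Char.normalConjHom N g n)) =
        (θ0.1 : Q → ℂ) (inclusion hNQ n) := by
      refine Eq.trans (congrArg _ (Subtype.ext rfl)) h1
    rw [h2, h3] at h4
    exact mul_left_cancel₀ (Char.irr_one_ne_zero θ0.1) h4
  · obtain ⟨⟨a, h⟩, hah⟩ := hH.2 g
    have hah' : (a : G) * (h : G) = g := hah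
    have hhT : (h : G) ∈ T := by
      have h1 := mul_mem (inv_mem (hQT a.2)) hg
      rwa [← hah', inv_mul_cancel_left] at h1
    have h2 : (h : G) ∈ Char.inertia Q (θ0.1 : Q → ℂ) := by
      have h3 := congrArg (fun t : Ω => (t.1 : Q → ℂ)) (hθ0 ⟨(h : G), mem_inf.2 ⟨hhT, h.2⟩⟩)
      have h4 : (h : G)⁻¹ ∈ Char.inertia Q (θ0.1 : Q → ℂ) := (Char.mem_inertia Q _ _).2 h3
      simpa using inv_mem h4
    rw [← hah']
    exact mul_mem (Char.le_inertia Q (Char.isClassFunction_irr θ0.1) a.2) h2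

end CfsgLib.DegComp.Palfy
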