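import Cfsg.Agent.Lib.PGroup.RepWeights
import Cfsg.Agent.Lib.PGroup.ShultGross.Centralize
import Mathlib.LinearAlgebra.LinearIndependent.Basic
import Mathlib.LinearAlgebra.FreeModule.Finite.Matrix

/-!
# Operators of prime order larger than the dimension

Let `a` of prime order `q > n` normalize a `c`-subgroup `Y` of a group acting faithfully in
dimension `n` in characteristic other than `c`.  If `Y` is abelian, `a` centralizes it.  In
general `a` centralizes `Y` unless `c = 2`, `n = 2 ^ b` and `q = n + 1`.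
-/

set_option autoImplicit false
set_option linter.style.haveILetI false
set_option linter.unusedSectionVars false

namespace CfsgLib.DegComp.Palfy

open CfsgLib.PGroup
open Subgroup
open scoped commutatorElement

universe u v w

/-- The index of the radical of an alternating pairing with values in a group of prime order is a
square. -/
theorem isSquare_index_ker {A : Type v} [CommGroup A] [Finite A] {c : ℕ} (hc : c.Prime)
    (hA : Nat.card A = c) : ∀ (N : ℕ) (Y : Type u) [Group Y] [Finite Y] (β : Y →* Y →* A),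
      (∀ y, β y y = 1) → Nat.card Y ≤ N → IsSquare β.ker.index := by
  haveI := Fact.mk hc
  intro N
  induction N with
  | zero => intro Y _ _ β _ h; exact absurd h (Nat.not_le.2 Nat.card_pos)
  | succ N ih =>
  intro Y _ _ β halt hN
  by_cases h1 : β = 1
  · refine ⟨1, ?_⟩
    rw [h1, MonoidHom.ker_one, index_top]
  have hsk : ∀ x y, β x y * β y x = 1 := fun x y => by
    have h := halt (x * y)
    simp only [map_mul, MonoidHom.mul_apply, halt, one_mul, mul_one] at h
    rw [mul_comm]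
    exact h
  obtain ⟨x, y, hxy⟩ : ∃ x y, β x y ≠ 1 := by
    by_contra hh
    push Not at hh
    exact h1 (MonoidHom.ext fun a => MonoidHom.ext fun b => by simpa using hh a b)
  have hyx : β y x ≠ 1 := fun e => hxy (by simpa [e] using hsk x y)
  let ψ : Y →* A × A := (β x).prod (β y)
  have htop : ∀ H : Subgroup Y, x ∈ H → y ∈ H → H.map ψ = ⊤ := by
    intro H hx hy
    refine eq_top_iff.2 fun ⟨a, b⟩ _ => ?_
    obtain ⟨i, rfl⟩ := mem_zpowers_iff.1 (mem_zpowers_of_prime_card hA hxy (g' := a))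
    obtain ⟨j, rfl⟩ := mem_zpowers_iff.1 (mem_zpowers_of_prime_card hA hyx (g' := b))
    refine ⟨x ^ j * y ^ i, mul_mem (zpow_mem hx j) (zpow_mem hy i), ?_⟩
    simp [ψ, halt]
  have hrange : ψ.range = ⊤ := by
    rw [MonoidHom.range_eq_map]
    exact htop ⊤ trivial trivial
  have hidx : ψ.ker.index = c * c := by
    rw [Subgroup.index_ker, hrange, Subgroup.card_top, Nat.card_prod, hA]
  set W := ψ.ker with hW
  have hWmem : ∀ w, w ∈ W ↔ β x w = 1 ∧ β y w = 1 := fun w => by
    simp [W, ψ, MonoidHom.mem_ker, Prod.mk_eq_one]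
  let β' : W →* W →* A :=
    { toFun := fun w => (β w).comp W.subtype
      map_one' := by ext; simp
      map_mul' := fun a b => by ext; simp }
  have hker : β.ker ≤ W := fun k hk => by
    rw [MonoidHom.mem_ker] at hk
    refine (hWmem k).2 ⟨?_, ?_⟩
    · simpa [hk] using hsk x k
    · simpa [hk] using hsk y k
  have hker' : β'.ker = β.ker.subgroupOf W := by
    ext w
    rw [MonoidHom.mem_ker, mem_subgroupOf, MonoidHom.mem_ker]
    refine ⟨fun h => ?_, fun h => MonoidHom.ext fun z => ?_⟩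
    · have hx : (β w).ker = ⊤ := by
        have hWle : W ≤ (β (w : Y)).ker := fun z hz => by
          have h' := DFunLike.congr_fun h ⟨z, hz⟩
          exact h'
        have hxm : x ∈ (β (w : Y)).ker := by
          simpa [((hWmem _).1 w.2).1] using hsk x w
        have hym : y ∈ (β (w : Y)).ker := by
          simpa [((hWmem _).1 w.2).2] using hsk y w
        rw [← sup_eq_left.2 hWle, ← Subgroup.comap_map_eq ψ, htop _ hxm hym, Subgroup.comap_top]
      exact MonoidHom.ext fun z => by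
        have hz : z ∈ (β (w : Y)).ker := hx ▸ mem_top z
        simpa using hz
    · show β (w : Y) (z : Y) = 1
      rw [h]; rfl
  have hlt : Nat.card W < Nat.card Y := by
    have h2 := W.card_mul_index
    rw [hidx] at h2
    rw [← h2]
    exact lt_mul_of_one_lt_right Nat.card_pos (by nlinarith [hc.two_le])
  obtain ⟨m, hm⟩ := ih W β' (fun w => halt w) (by omega)
  refine ⟨m * c, ?_⟩
  rw [hker'] at hm
  rw [← Subgroup.relIndex_mul_index hker, hidx, Subgroup.relIndex, hm]
  ring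

variable {H : Type u} [Group H] [Finite H] {k : Type v} [Field k] [IsAlgClosed k] {W : Type w}
  [AddCommGroup W] [Module k W] [FiniteDimensional k W] (ρ : H →* Module.End k W)

/-- An operator of prime power order `q ^ e`, `q` above the dimension, fixes every eigencharacter. -/
theorem twist_eq_self (Y : Subgroup H) [Fintype Y] (hk : (Fintype.card Y : k) ≠ 0) {q e : ℕ}
    (hq : q.Prime) (hn : Module.finrank k W < q) {g : H} (hgq : g ^ q ^ e = 1)
    (hg : g ∈ normalizer (Y : Set H)) {χ : Y →* kˣ} {x : W} (hx : IsEigen ρ Y χ x) (hx0 : x ≠ 0) :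
    twist Y hg χ = χ := by
  classical
  have hpow : ∀ i : ℕ, g ^ i ∈ normalizer (Y : Set H) := fun i => pow_mem hg i
  let S : Subgroup H :=
    { carrier := {h | ∃ hh : h ∈ normalizer (Y : Set H), twist Y hh χ = χ}
      one_mem' := ⟨one_mem _, twist_one _ χ⟩
      mul_mem' := by
        rintro a b ⟨ha, ea⟩ ⟨hb, eb⟩
        exact ⟨mul_mem ha hb, by rw [← twist_twist ha hb, eb, ea]⟩
      inv_mem' := by
        rintro a ⟨ha, ea⟩
        refine ⟨inv_mem ha, ?_⟩
        conv_lhs => rw [← ea, twist_twist, twist_congr (inv_mul_cancel a) _ (one_mem _), twist_one] }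
  by_contra hne
  have hgS : g ∉ S := fun ⟨_, h⟩ => hne h
  have hfree : ∀ i, i < q → i ≠ 0 → g ^ i ∉ S := by
    intro i hi hi0 hmem
    obtain ⟨j, hj, hjm⟩ := ShultGross.exists_pow_prime_mem hq hgq hi0 hmem
    have : j = 0 := by
      by_contra hj0
      have := Nat.le_of_dvd (Nat.pos_of_ne_zero hi0) ((dvd_pow_self q hj0).trans hj)
      omega
    subst this
    rw [pow_zero, pow_one] at hjm
    exact hgS hjm
  have hli : LinearIndependent k (fun i : Fin q => ρ (g ^ (i : ℕ)) x) := by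
    rw [Fintype.linearIndependent_iff]
    intro a ha i
    have h1 := congrArg (eigProj ρ (twist Y (hpow i) χ)) ha
    rw [map_sum, map_zero, Finset.sum_eq_single i] at h1
    · rw [map_smul, eigProj_self ρ (hx.map ρ (hpow i))] at h1
      have hne0 : ρ (g ^ (i : ℕ)) x ≠ 0 := fun e0 =>
        hx0 (rep_injective ρ _ (e0.trans (map_zero _).symm))
      rcases smul_eq_zero.1 h1 with h2 | h2
      · exact h2
      · exact absurd h2 (smul_ne_zero hk hne0)
    · intro j _ hji
      rw [map_smul, eigProj_ne ρ (hx.map ρ (hpow j)), smul_zero]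
      intro heq
      rcases lt_or_gt_of_ne (Fin.val_ne_of_ne hji) with hlt | hlt
      · refine hfree ((i : ℕ) - j) (by omega) (by omega) ⟨hpow _, twist_injective (hpow j) ?_⟩
        rw [twist_twist, twist_congr (show g ^ (j : ℕ) * g ^ ((i : ℕ) - j) = g ^ (i : ℕ) by
          rw [← pow_add]; congr 1; omega) _ (hpow i)]
        exact heq
      · refine hfree ((j : ℕ) - i) (by omega) (by omega) ⟨hpow _, twist_injective (hpow i) ?_⟩
        rw [twist_twist, twist_congr (show g ^ (i : ℕ) * g ^ ((j : ℕ) - i) = g ^ (j : ℕ) by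
          rw [← pow_add]; congr 1; omega) _ (hpow j)]
        exact heq.symm
    · intro h; exact absurd (Finset.mem_univ i) h
  have := hli.fintype_card_le_finrank
  rw [Fintype.card_fin] at this
  omega

variable (hinj : Function.Injective ρ)
include hinj

/-- An element of prime order above the dimension centralizes an abelian subgroup it normalizes. -/
theorem commute_of_abelian {q : ℕ} (hq : q.Prime) (hn : Module.finrank k W < q) {a : H}
    (haq : a ^ q = 1) (Y : Subgroup H) (hYc : ∀ y ∈ Y, ∀ z ∈ Y, y * z = z * y)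
    (hk : (Nat.card Y : k) ≠ 0) (ha : a ∈ normalizer (Y : Set H)) {y : H} (hy : y ∈ Y) :
    Commute a y := by
  classical
  haveI := Fintype.ofFinite Y
  rw [Nat.card_eq_fintype_card] at hk
  have hY : ImgComm ρ Y := fun y hy z hz => by rw [hYc y hy z hz]
  have hy' : a⁻¹ * y * a ∈ Y := (mem_normalizer_iff''.1 ha y).1 hy
  have key : ρ (a⁻¹ * y * a) = ρ y := by
    refine sub_eq_zero.1 (eq_zero_of_forall_eigen ρ hY hk _ ?_ ?_)
    · intro z hz x
      rw [LinearMap.sub_apply, LinearMap.sub_apply, map_sub, ← rep_mul_apply, ← rep_mul_apply,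
        ← rep_mul_apply, ← rep_mul_apply, hY z hz _ hy', hY z hz _ hy]
    · intro χ x hx
      by_cases hx0 : x = 0
      · rw [hx0, map_zero]
      have h := twist_eq_self ρ Y hk hq hn (g := a) (e := 1) (by rw [pow_one]; exact haq) ha hx hx0
      have h2 := DFunLike.congr_fun h ⟨y, hy⟩
      rw [twist_apply] at h2
      rw [LinearMap.sub_apply, show ρ y x = _ from hx ⟨y, hy⟩,
        show ρ (a⁻¹ * y * a) x = _ from hx ⟨_, hy'⟩, h2, sub_self]
  have h := hinj key
  rw [mul_assoc, inv_mul_eq_iff_eq_mul] at h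
  exact h.symm

/-- The exceptional shape forced by a `c`-group moved by a large prime element. -/
theorem large_prime {q c e : ℕ} (hq : q.Prime) [hc : Fact c.Prime] (hck : (c : k) ≠ 0)
    (hcq : c ≠ q) (hn : Module.finrank k W < q) {g : H} (hg1 : g ^ q ^ (e + 1) = 1)
    (Y : Subgroup H) (hY : IsPGroup c Y) (hg : g ∈ normalizer (Y : Set H))
    (hne : ∃ y ∈ Y, ¬ Commute (g ^ q ^ e) y) :
    ∃ b : ℕ, c = 2 ∧ 1 ≤ b ∧ Module.finrank k W = 2 ^ b ∧ q = 2 ^ b + 1 ∧
      q ^ (e + 1) ∣ 2 ^ (2 * b) - 1 := by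
  classical
  suffices key : ∀ (N : ℕ) (Y : Subgroup H), Nat.card Y ≤ N → IsPGroup c Y →
      g ∈ normalizer (Y : Set H) → (∃ y ∈ Y, ¬ Commute (g ^ q ^ e) y) →
      ∃ b : ℕ, c = 2 ∧ 1 ≤ b ∧ Module.finrank k W = 2 ^ b ∧ q = 2 ^ b + 1 ∧
        q ^ (e + 1) ∣ 2 ^ (2 * b) - 1 from key _ Y le_rfl hY hg hne
  intro N
  induction N with
  | zero => exact fun Y h => absurd h (Nat.not_le.2 Nat.card_pos)
  | succ N ih =>
  intro Y hcard hY hg hne
  set a := g ^ q ^ e with ha
  have haq : a ^ q = 1 := by rw [ha, ← pow_mul, ← pow_succ, hg1]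
  have haY : a ∈ normalizer (Y : Set H) := pow_mem hg _
  by_cases hprop : ∃ S : Subgroup H, S ≤ Y ∧ g ∈ normalizer (S : Set H) ∧ S ≠ Y ∧
      ∃ x ∈ S, ¬ Commute a x
  · obtain ⟨S, hS, hgS, hSne, hSx⟩ := hprop
    exact ih S (by
      have : Nat.card S < Nat.card Y :=
        lt_of_not_ge fun h => hSne (eq_of_le_of_card_ge hS h)
      omega) (hY.to_le hS) hgS hSx
  push Not at hprop
  haveI := Fintype.ofFinite Y
  obtain ⟨y₁, hy₁, hy₁a⟩ := hne
  have hcK : ∀ S : Subgroup H, S ≤ Y → (Nat.card S : k) ≠ 0 := fun S hS => by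
    obtain ⟨j, hj⟩ := IsPGroup.iff_card.1 (hY.to_le hS)
    rw [hj, Nat.cast_pow]
    exact pow_ne_zero _ hck
  have hnab : ¬ ∀ y ∈ Y, ∀ z ∈ Y, y * z = z * y := fun h =>
    hy₁a (commute_of_abelian ρ hinj hq hn haq Y h (hcK Y le_rfl) haY hy₁)
  have hgconj : ∀ y ∈ Y, g * y * g⁻¹ ∈ Y := fun y hy => (mem_normalizer_iff.1 hg y).1 hy
  have haconj : ∀ y ∈ Y, a * y * a⁻¹ ∈ Y := fun y hy => (mem_normalizer_iff.1 haY y).1 hy
  -- the Frattini subgroup is centralised
  set Φ : Subgroup H := (frattini Y).map Y.subtype with hΦ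
  have hΦY : Φ ≤ Y := map_subtype_le _
  have hΦne : Φ ≠ Y := by
    intro h
    haveI : Nontrivial Y := ⟨⟨⟨y₁, hy₁⟩, 1, fun h0 => hy₁a (by
      rw [show y₁ = 1 from congrArg Subtype.val h0]; exact Commute.one_right a)⟩⟩
    have hf : frattini Y = ⊤ := by
      refine map_injective Y.subtype_injective ?_
      rw [← MonoidHom.range_eq_map, range_subtype]
      exact h
    exact bot_ne_top (α := Subgroup Y) (frattini_nongenerating (by rw [bot_sup_eq, hf]))
  have hgΦ : g ∈ normalizer (Φ : Set H) := by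
    have hmem : ∀ z : H, z ∈ Φ → g * z * g⁻¹ ∈ Φ := by
      rintro _ ⟨z, hz, rfl⟩
      let f : Y ≃* Y :=
        { toFun := fun w => ⟨g * w * g⁻¹, hgconj w w.2⟩
          invFun := fun w => ⟨g⁻¹ * w * g, (mem_normalizer_iff''.1 hg w).1 w.2⟩
          left_inv := fun w => Subtype.ext (by group)
          right_inv := fun w => Subtype.ext (by group)
          map_mul' := fun v w => Subtype.ext (by simp [mul_assoc]) }
      refine ⟨f z, ?_, rfl⟩
      have := characteristic_iff_map_eq.1 (inferInstance : (frattini Y).Characteristic) f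
      rw [← this]
      exact mem_map_of_mem _ hz
    refine mem_normalizer_iff_map_conj_eq.2 (eq_of_le_of_card_ge ?_ ?_)
    · rintro _ ⟨z, hz, rfl⟩
      exact hmem z hz
    · exact (card_map_of_injective (MulEquiv.injective (MulAut.conj g))).ge
  have hΦa : ∀ z ∈ Φ, Commute a z := hprop Φ hΦY hgΦ hΦne
  have hcomm : ∀ y ∈ Y, ∀ z ∈ Y, ⁅y, z⁆ ∈ Φ := fun y hy z hz =>
    ⟨⁅⟨y, hy⟩, ⟨z, hz⟩⁆, CfsgLib.Coprime.commutator_le_frattini hY
      (commutator_mem_commutator (mem_top _) (mem_top _)), rfl⟩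
  have hpowc : ∀ y ∈ Y, y ^ c ∈ Φ := fun y hy =>
    ⟨⟨y, hy⟩ ^ c, CfsgLib.Coprime.pow_mem_frattini hY _, rfl⟩
  -- a fixed point of `a` modulo a centralized subgroup is fixed
  have hfix : ∀ y ∈ Y, ∀ r : H, r ∈ Y → Commute a r → a * y * a⁻¹ = y * r → r = 1 := by
    intro y hy r hr har e'
    have h1 : ∀ i : ℕ, a ^ i * y * (a ^ i)⁻¹ = y * r ^ i := by
      intro i
      induction i with
      | zero => simp
      | succ i ih =>
        calc a ^ (i + 1) * y * (a ^ (i + 1))⁻¹ = a * (a ^ i * y * (a ^ i)⁻¹) * a⁻¹ := by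
              rw [pow_succ']; group
          _ = a * y * a⁻¹ * (a * r ^ i * a⁻¹) := by rw [ih]; group
          _ = y * r ^ (i + 1) := by
              rw [e', (har.pow_right i).eq, mul_inv_cancel_right, mul_assoc, ← pow_succ']
    have h2 := h1 q
    rw [haq, inv_one, mul_one, one_mul, left_eq_mul] at h2
    obtain ⟨j, hj⟩ := hY ⟨r, hr⟩
    have hj' : r ^ c ^ j = 1 := congrArg Subtype.val hj
    refine pow_gcd_eq_one.2 ⟨h2, hj'⟩ |> fun h => ?_
    rwa [Nat.Coprime.gcd_eq_one (Nat.Coprime.pow_right _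
      ((Nat.coprime_primes hq hc.out).2 hcq.symm)), pow_one] at h
  -- `Y` is generated by the `y⁻¹ a y a⁻¹`
  set D : Subgroup H := closure {d | ∃ y ∈ Y, d = y⁻¹ * (a * y * a⁻¹)} with hD
  have hDY : D ≤ Y := by
    rw [hD, closure_le]
    rintro d ⟨y, hy, rfl⟩
    exact mul_mem (inv_mem hy) (haconj y hy)
  have hga : ∀ i : ℕ, Commute g (g ^ i) := fun i => Commute.self_pow g i
  have hDeq : D = Y := by
    by_contra hne'
    have hgD : g ∈ normalizer (D : Set H) := by
      refine mem_normalizer_iff_map_conj_eq.2 (eq_of_le_of_card_ge ?_ ?_)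
      · rw [hD, MonoidHom.map_closure, closure_le]
        rintro _ ⟨_, ⟨y, hy, rfl⟩, rfl⟩
        refine subset_closure ⟨g * y * g⁻¹, hgconj y hy, ?_⟩
        have hga' : g⁻¹ * a = a * g⁻¹ := ((hga _).inv_left).eq
        have hga'' : a⁻¹ * g⁻¹ = g⁻¹ * a⁻¹ := ((hga _).inv_left.inv_right).eq.symm
        show g * (y⁻¹ * (a * y * a⁻¹)) * g⁻¹ = _
        calc g * (y⁻¹ * (a * y * a⁻¹)) * g⁻¹
            = g * y⁻¹ * g⁻¹ * (g * a) * y * (a⁻¹ * g⁻¹) := by group
          _ = _ := by rw [show g * a = a * g from (hga _).eq, hga'']; group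
      · exact (card_map_of_injective (MulEquiv.injective (MulAut.conj g))).ge
    have h1 := hfix y₁ hy₁ (y₁⁻¹ * (a * y₁ * a⁻¹)) (hDY (subset_closure ⟨y₁, hy₁, rfl⟩))
      (hprop D hDY hgD hne' _ (subset_closure ⟨y₁, hy₁, rfl⟩)) (by rw [mul_inv_cancel_left])
    exact hy₁a (by
      rw [inv_mul_eq_one, eq_comm, mul_inv_eq_iff_eq_mul] at h1
      exact h1)
  -- fixed points are central
  have hcentral : ∀ f ∈ Y, Commute a f → ∀ y ∈ Y, f * y = y * f := by
    intro f hf haf
    have hsub : D ≤ centralizer ({f} : Set H) := by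
      rw [hD, closure_le]
      rintro d ⟨y, hy, rfl⟩
      rw [SetLike.mem_coe, mem_centralizer_singleton_iff]
      have h1 : a * ⁅f, y⁆ * a⁻¹ = ⁅f, y⁆ := by
        rw [(hΦa _ (hcomm f hf y hy)).eq, mul_inv_cancel_right]
      have h2 : a * ⁅f, y⁆ * a⁻¹ = ⁅a * f * a⁻¹, a * y * a⁻¹⁆ := by
        simp only [commutatorElement_def]; group
      rw [show a * f * a⁻¹ = f by rw [haf.eq, mul_inv_cancel_right], h1] at h2
      simp only [commutatorElement_def] at h2
      generalize a * y * a⁻¹ = z at h2 ⊢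
      have h5 : y * f⁻¹ * y⁻¹ = z * f⁻¹ * z⁻¹ := mul_left_cancel (a := f) (by
        simpa [mul_assoc] using h2)
      have h6 : Commute (y⁻¹ * z) f⁻¹ := by
        calc y⁻¹ * z * f⁻¹ = y⁻¹ * (z * f⁻¹ * z⁻¹) * z := by group
          _ = f⁻¹ * (y⁻¹ * z) := by rw [← h5]; group
      exact (Commute.inv_right_iff.1 h6).eq
    intro y hy
    exact (mem_centralizer_singleton_iff.1 (hsub (hDeq ▸ hy))).symm
  -- centre and a character nontrivial on commutators
  set Z : Subgroup H := Y ⊓ centralizer (Y : Set H) with hZ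
  have hZmem : ∀ z, z ∈ Z ↔ z ∈ Y ∧ ∀ y ∈ Y, y * z = z * y := fun z => by
    simp [Z, mem_centralizer_iff]
  have hgZ : g ∈ normalizer (Z : Set H) := by
    refine mem_normalizer_iff.2 fun z => ?_
    rw [hZmem, hZmem, mem_normalizer_iff.1 hg z]
    refine and_congr_right fun hz => ⟨fun h y hy => ?_, fun h y hy => ?_⟩
    · have h1 := h (g⁻¹ * y * g) ((mem_normalizer_iff''.1 hg y).1 hy)
      calc y * (g * z * g⁻¹) = g * ((g⁻¹ * y * g) * z) * g⁻¹ := by group
        _ = _ := by rw [h1]; group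
    · have h1 := h (g * y * g⁻¹) (hgconj y hy)
      calc y * z = g⁻¹ * ((g * y * g⁻¹) * (g * z * g⁻¹)) * g := by group
        _ = _ := by rw [h1]; group
  have hZY : Z ≤ Y := inf_le_left
  have hZne : Z ≠ Y := fun h => hnab fun y hy z hz => ((hZmem z).1 (h ▸ hz)).2 y hy
  have hZa : ∀ z ∈ Z, Commute a z := hprop Z hZY hgZ hZne
  have hZc : ∀ f ∈ Y, Commute a f → f ∈ Z := fun f hf haf =>
    (hZmem f).2 ⟨hf, fun y hy => (hcentral f hf haf y hy).symm⟩
  have hcZ : ∀ y ∈ Y, ∀ z ∈ Y, ⁅y, z⁆ ∈ Z := fun y hy z hz =>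
    hZc _ (hΦY (hcomm y hy z hz)) (hΦa _ (hcomm y hy z hz))
  haveI := Fintype.ofFinite Z
  have hZk : (Fintype.card Z : k) ≠ 0 := by
    rw [← Nat.card_eq_fintype_card]; exact hcK Z hZY
  have hZimg : ImgComm ρ Z := fun z hz w hw => by
    rw [((hZmem w).1 hw).2 z (hZY hz)]
  obtain ⟨χ, x, hx, hx0, y₂, hy₂, z₂, hz₂, hχ⟩ : ∃ (χ : Z →* kˣ) (x : W), IsEigen ρ Z χ x ∧ x ≠ 0 ∧
      ∃ y, ∃ hy : y ∈ Y, ∃ z, ∃ hz : z ∈ Y, χ ⟨⁅y, z⁆, hcZ y hy z hz⟩ ≠ 1 := by
    by_contra hh
    push Not at hh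
    refine hnab fun y hy z hz => ?_
    have key : ρ ⁅y, z⁆ = 1 := by
      refine sub_eq_zero.1 (eq_zero_of_forall_eigen ρ hZimg hZk _ ?_ ?_)
      · intro w hw v
        rw [LinearMap.sub_apply, LinearMap.sub_apply, map_sub, ← rep_mul_apply, ← rep_mul_apply,
          hZimg _ (hcZ y hy z hz) w hw, Module.End.one_apply, Module.End.one_apply]
      · intro χ v hv
        by_cases hv0 : v = 0
        · rw [hv0, map_zero]
        rw [LinearMap.sub_apply, show ρ ⁅y, z⁆ v = _ from hv ⟨_, hcZ y hy z hz⟩,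
          hh χ v hv hv0 y hy z hz, Units.val_one, one_smul, Module.End.one_apply, sub_self]
    exact commutatorElement_eq_one_iff_mul_comm.1 (hinj (key.trans ρ.map_one.symm))
  have hχg : twist Z hgZ χ = χ := twist_eq_self ρ Z hZk hq hn (e := e + 1) hg1 hgZ hx hx0
  -- the pairing
  let cz : Y → Y → Z := fun y z => ⟨⁅(y : H), z⁆, hcZ y y.2 z z.2⟩
  have hcz1 : ∀ y₁ y₂ z : Y, cz (y₁ * y₂) z = cz y₁ z * cz y₂ z := by
    intro y₁ y₂ z
    refine Subtype.ext ?_
    show ⁅(y₁ : H) * y₂, (z : H)⁆ = ⁅(y₁ : H), (z : H)⁆ * ⁅(y₂ : H), (z : H)⁆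
    have h := ((hZmem _).1 (cz y₂ z).2).2 (y₁ : H) y₁.2
    have h' := ((hZmem _).1 (cz y₂ z).2).2 _ (hZY (cz y₁ z).2)
    rw [commutatorElement_mul_left_eq_conj_mul, h, mul_inv_cancel_right]
    exact h'.symm
  have hcz2 : ∀ y z₁ z₂ : Y, cz y (z₁ * z₂) = cz y z₁ * cz y z₂ := by
    intro y z₁ z₂
    refine Subtype.ext ?_
    show ⁅(y : H), (z₁ : H) * z₂⁆ = ⁅(y : H), (z₁ : H)⁆ * ⁅(y : H), (z₂ : H)⁆
    have h := ((hZmem _).1 (cz y z₂).2).2 (z₁ : H) z₁.2
    rw [commutatorElement_mul_right_eq_mul_conj, mul_assoc _ (z₁ : H), h, ← mul_assoc,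
      mul_inv_cancel_right]
  have hroot : ∀ y z : Y, χ (cz y z) ∈ rootsOfUnity c k := by
    intro y z
    rw [mem_rootsOfUnity]
    have hyc : cz (y ^ c) z = 1 := by
      have hm : (y : H) ^ c ∈ Z := hZc _ (pow_mem y.2 c) (hΦa _ (hpowc y y.2))
      refine Subtype.ext ?_
      show ⁅((y ^ c : Y) : H), (z : H)⁆ = 1
      rw [SubgroupClass.coe_pow, commutatorElement_eq_one_iff_mul_comm]
      exact (((hZmem _).1 hm).2 z z.2).symm
    let f : Y →* Z := MonoidHom.mk' (fun w => cz w z) fun a b => hcz1 a b z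
    rw [← map_pow, ← show f (y ^ c) = cz y z ^ c from map_pow f y c]
    show χ (cz (y ^ c) z) = 1
    rw [hyc, map_one]
  let β : Y →* Y →* rootsOfUnity c k :=
    MonoidHom.mk'
      (fun y => MonoidHom.mk' (fun z => ⟨χ (cz y z), hroot y z⟩)
        fun z₁ z₂ => Subtype.ext (by simp [hcz2]))
      fun y₁ y₂ => MonoidHom.ext fun z => Subtype.ext (by simp [hcz1])
  have hcard : Nat.card (rootsOfUnity c k) = c := by
    haveI : NeZero c := ⟨hc.out.ne_zero⟩
    refine le_antisymm (card_rootsOfUnity k c) ?_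
    have h2 : (⟨χ (cz ⟨y₂, hy₂⟩ ⟨z₂, hz₂⟩), hroot _ _⟩ : rootsOfUnity c k) ≠ 1 :=
      fun h => hχ (congrArg Subtype.val h)
    have h3 := orderOf_eq_prime (p := c) (Subtype.ext ((mem_rootsOfUnity c _).1 (hroot ⟨y₂, hy₂⟩ ⟨z₂, hz₂⟩))) h2
    have h4 := orderOf_dvd_natCard (⟨χ (cz ⟨y₂, hy₂⟩ ⟨z₂, hz₂⟩), hroot _ _⟩ : rootsOfUnity c k)
    rw [h3] at h4
    exact Nat.le_of_dvd Nat.card_pos h4
  haveI : Finite (rootsOfUnity c k) := Nat.finite_of_card_ne_zero (by rw [hcard]; exact hc.out.ne_zero)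
  have halt : ∀ y, β y y = 1 := fun y => Subtype.ext (by
    show χ (cz y y) = 1
    rw [show cz y y = 1 from Subtype.ext (by simp [cz]), map_one])
  set R := β.ker with hR
  have hRtop : R ≠ ⊤ := by
    intro h
    have : (⟨y₂, hy₂⟩ : Y) ∈ R := h ▸ mem_top _
    exact hχ (congrArg Subtype.val (DFunLike.congr_fun this (⟨z₂, hz₂⟩ : Y)))
  -- independence
  set E := eigProj ρ (Y := Z) χ with hE
  have hzE : ∀ (z : Z) (v : W), ρ (z : H) (E v) = (χ z : k) • E v := fun z v =>
    isEigen_eigProj ρ χ v z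
  have hli : LinearIndependent k (fun u : Y ⧸ R => ρ ((u.out : Y) : H) * E) := by
    rw [Fintype.linearIndependent_iff]
    intro a' hsum
    by_contra hcon
    push Not at hcon
    obtain ⟨i, hi⟩ := hcon
    let φ : Y ⧸ R → (Y →* k) := fun u =>
      ((Units.coeHom k).comp ((rootsOfUnity c k).subtype.comp (β u.out)))
    have hφ : Function.Injective φ := by
      intro u u' h
      have h1 : β u.out = β u'.out := MonoidHom.ext fun z => Subtype.ext (Units.ext
        (DFunLike.congr_fun h z))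
      rw [← QuotientGroup.out_eq' u, ← QuotientGroup.out_eq' u', QuotientGroup.eq]
      show _ ∈ β.ker
      rw [MonoidHom.mem_ker, map_mul, map_inv, h1, inv_mul_cancel]
    have hEx : ρ ((i.out : Y) : H) (E x) ≠ 0 := by
      rw [hE, eigProj_self ρ hx]
      exact fun h0 => smul_ne_zero hZk hx0 (rep_injective ρ _ (h0.trans (map_zero _).symm))
    obtain ⟨l, hl⟩ : ∃ l : W →ₗ[k] k, l (ρ ((i.out : Y) : H) (E x)) ≠ 0 := by
      by_contra hh
      push Not at hh
      exact hEx ((Module.forall_dual_apply_eq_zero_iff k _).1 hh)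
    have hw : ∀ (w : Y) (u : Y ⧸ R), ρ ((u.out : Y) : H) (ρ (w : H) (E x)) =
        (χ (cz u.out w) : k) • ρ (w : H) (ρ ((u.out : Y) : H) (E x)) := by
      intro w u
      have e2 : ((u.out : Y) : H) * (w : H) =
          ⁅((u.out : Y) : H), (w : H)⁆ * ((w : H) * ((u.out : Y) : H)) := by
        rw [commutatorElement_def]; group
      have e3 : ⁅((u.out : Y) : H), (w : H)⁆ * ((w : H) * ((u.out : Y) : H)) =
          ((w : H) * ((u.out : Y) : H)) * ⁅((u.out : Y) : H), (w : H)⁆ :=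
        (((hZmem _).1 (cz u.out w).2).2 _ (mul_mem w.2 u.out.2)).symm
      rw [← rep_mul_apply, ← rep_mul_apply, e2, e3, rep_mul_apply,
        show ρ ⁅((u.out : Y) : H), (w : H)⁆ (E x) = _ from hzE (cz u.out w) x, map_smul]
    have hrel : ∑ u, (a' u * l (ρ ((u.out : Y) : H) (E x))) • (fun z => φ u z) = 0 := by
      funext w
      rw [Finset.sum_apply, Pi.zero_apply]
      have h0 := LinearMap.congr_fun hsum (ρ (w : H) x)
      have hEw : E (ρ (w : H) x) = ρ (w : H) (E x) :=
        (eigProj_comm ρ χ (ρ (w : H)) (fun z hz v => by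
          rw [← rep_mul_apply, ← rep_mul_apply, ((hZmem z).1 hz).2 w w.2]) x).symm
      simp only [LinearMap.sum_apply, LinearMap.smul_apply, Module.End.mul_apply, hEw,
        LinearMap.zero_apply] at h0
      have h1 := congrArg (fun v => l (ρ (w : H)⁻¹ v)) h0
      simp only [map_sum, map_smul, map_zero, smul_eq_mul] at h1
      rw [← h1]
      refine Finset.sum_congr rfl fun u _ => ?_
      rw [hw w u, map_smul, rep_inv_apply, map_smul, smul_eq_mul, Pi.smul_apply, smul_eq_mul]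
      show a' u * l _ * (χ (cz u.out w) : k) = a' u * ((χ (cz u.out w) : k) * l _)
      ring
    have h3 := Fintype.linearIndependent_iff.1
      ((linearIndependent_monoidHom Y k).comp φ hφ) _ hrel i
    exact (mul_ne_zero hi hl) h3
  haveI := Fintype.ofFinite (Y ⧸ R)
  have hle := hli.fintype_card_le_finrank
  rw [Module.finrank_linearMap, ← Nat.card_eq_fintype_card, ← index_eq_card] at hle
  obtain ⟨m, hm⟩ := isSquare_index_ker hc.out hcard _ Y β halt le_rfl
  obtain ⟨j, hj⟩ := IsPGroup.iff_card.1 hY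
  obtain ⟨b, -, rfl⟩ := (Nat.dvd_prime_pow hc.out).1
    (((dvd_mul_right m m).trans hm.symm.dvd).trans (hj ▸ index_dvd_card R))
  -- semiregularity of `g` on the quotient
  let f : Y →* Y := MonoidHom.mk' (fun w => ⟨g * w * g⁻¹, hgconj w w.2⟩)
    fun v w => Subtype.ext (by simp [mul_assoc])
  have hgR : ∀ r, r ∈ R → f r ∈ R := by
    intro r hr
    refine MonoidHom.ext fun z => Subtype.ext ?_
    have h1 : χ (cz r ⟨g⁻¹ * z * g, (mem_normalizer_iff''.1 hg _).1 z.2⟩) = 1 :=
      congrArg Subtype.val (DFunLike.congr_fun hr _)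
    show χ (cz (f r) z) = 1
    rw [← DFunLike.congr_fun hχg, twist_apply, ← h1]
    refine congrArg χ (Subtype.ext ?_)
    show g⁻¹ * ⁅g * (r : H) * g⁻¹, (z : H)⁆ * g = ⁅(r : H), g⁻¹ * z * g⁆
    simp only [commutatorElement_def]
    group
  have hRY : ∀ r : Y, r ∈ R → (r : H) ∈ Z := by
    intro r hr
    have hle' : R.map Y.subtype ≤ Y := map_subtype_le _
    have hg' : g ∈ normalizer ((R.map Y.subtype : Subgroup H) : Set H) := by
      refine mem_normalizer_iff_map_conj_eq.2 (eq_of_le_of_card_ge ?_ ?_)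
      · rintro _ ⟨_, ⟨z, hz, rfl⟩, rfl⟩
        exact ⟨f z, hgR z hz, rfl⟩
      · exact (card_map_of_injective (MulEquiv.injective (MulAut.conj g))).ge
    have hne' : R.map Y.subtype ≠ Y := fun h => hRtop (by
      refine map_injective Y.subtype_injective ?_
      rw [← MonoidHom.range_eq_map, range_subtype]
      exact h)
    exact hZc r r.2 (hprop _ hle' hg' hne' _ ⟨r, hr, rfl⟩)
  have hZR : ∀ z : Y, (z : H) ∈ Z → z ∈ R := by
    intro z hz
    refine MonoidHom.ext fun w => Subtype.ext ?_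
    show χ (cz z w) = 1
    rw [show cz z w = 1 from Subtype.ext ?_, map_one]
    show ⁅(z : H), (w : H)⁆ = 1
    rw [commutatorElement_eq_one_iff_mul_comm]
    exact (((hZmem _).1 hz).2 w w.2).symm
  let σ : Equiv.Perm (Y ⧸ R) :=
    let F : Y ⧸ R →* Y ⧸ R := QuotientGroup.map R R f (fun r hr => hgR r hr)
    Equiv.ofBijective F (Finite.injective_iff_bijective.1 ((injective_iff_map_eq_one F).2 (by
      intro u
      induction u using QuotientGroup.induction_on with
      | H w =>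
        intro hw
        replace hw : f w ∈ R := (QuotientGroup.eq_one_iff _).1 hw
        rw [QuotientGroup.eq_one_iff]
        have h1 := hRY _ hw
        refine hZR w ?_
        exact (mem_normalizer_iff.1 hgZ (w : H)).2 h1)))
  have hσ : ∀ (i : ℕ) (w : Y), ∃ hm' : g ^ i * (w : H) * (g ^ i)⁻¹ ∈ Y,
      (σ ^ i) (w : Y ⧸ R) = ((⟨g ^ i * (w : H) * (g ^ i)⁻¹, hm'⟩ : Y) : Y ⧸ R) := by
    intro i w
    induction i with
    | zero => exact ⟨by simp, by simp⟩
    | succ i ih =>
      obtain ⟨hm', e'⟩ := ih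
      refine ⟨(mem_normalizer_iff.1 (pow_mem hg _) _).1 w.2, ?_⟩
      rw [pow_succ', Equiv.Perm.mul_apply, e']
      show (((f ⟨g ^ i * (w : H) * (g ^ i)⁻¹, hm'⟩) : Y) : Y ⧸ R) = _
      refine congrArg _ (Subtype.ext ?_)
      show g * (g ^ i * (w : H) * (g ^ i)⁻¹) * g⁻¹ = g ^ (i + 1) * (w : H) * (g ^ (i + 1))⁻¹
      rw [pow_succ']
      group
  have hσq : σ ^ q ^ (e + 1) = 1 := by
    refine Equiv.ext fun u => ?_
    induction u using QuotientGroup.induction_on with
    | H w =>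
      obtain ⟨hm', e'⟩ := hσ (q ^ (e + 1)) w
      rw [e', Equiv.Perm.one_apply]
      exact congrArg _ (Subtype.ext (by simp [hg1]))
  have hσfix : ∀ u : Y ⧸ R, (σ ^ q ^ e) u = u → u = 1 := by
    intro u
    induction u using QuotientGroup.induction_on with
    | H w =>
      intro hu
      obtain ⟨hm', e'⟩ := hσ (q ^ e) w
      rw [e', eq_comm, QuotientGroup.eq] at hu
      rw [QuotientGroup.eq_one_iff]
      have h1 : (w : H)⁻¹ * (a * w * a⁻¹) ∈ Z := hRY _ hu
      have h2 := hfix w w.2 _ (hZY h1) (hZa _ h1) (by rw [mul_inv_cancel_left])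
      rw [inv_mul_eq_one, eq_comm, mul_inv_eq_iff_eq_mul] at h2
      exact hZR w (hZc w w.2 h2)
  haveI := Fact.mk hq
  have hdvd : q ^ (e + 1) ∣ c ^ (2 * b) - 1 := by
    let T := {u : Y ⧸ R // u ≠ 1}
    have hT : Nat.card T = c ^ (2 * b) - 1 := by
      rw [show Nat.card T = Nat.card ({1}ᶜ : Set (Y ⧸ R)) from rfl, Nat.card_coe_set_eq,
        Set.ncard_compl, Set.ncard_singleton, ← index_eq_card, hm, two_mul, pow_add]
    rw [← hT]
    have hσone : σ 1 = 1 := map_one (QuotientGroup.map R R f fun r hr => hgR r hr)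
    have hσ1 : ∀ u, σ u = 1 → u = 1 := fun u hu => σ.injective (hu.trans hσone.symm)
    let G' := Subgroup.zpowers σ
    have hfree : ∀ (s : G') (t : Y ⧸ R), t ≠ 1 → (s : Equiv.Perm (Y ⧸ R)) t = t → s = 1 := by
      intro s t ht hs
      by_contra hs1
      let St : Subgroup (Equiv.Perm (Y ⧸ R)) :=
        MulAction.stabilizer (Equiv.Perm (Y ⧸ R)) t
      obtain ⟨i, hi⟩ := mem_zpowers_iff.1 s.2
      have hord : orderOf σ ∣ q ^ (e + 1) := orderOf_dvd_of_pow_eq_one hσq
      obtain ⟨i', hi'⟩ : ∃ i' : ℕ, σ ^ i' = (s : Equiv.Perm (Y ⧸ R)) :=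
        ((isOfFinOrder_of_finite σ).mem_powers_iff_mem_zpowers.2 s.2)
      have hi0 : i' ≠ 0 := fun h => hs1 (Subtype.ext (by rw [← hi', h, pow_zero]; rfl))
      obtain ⟨j, hj, hjm⟩ := ShultGross.exists_pow_prime_mem (S := St) hq hσq hi0
        (by rw [hi']; exact hs)
      rcases le_or_gt j e with hle' | hgt
      · refine ht (hσfix t ?_)
        have : σ ^ q ^ e ∈ St := by
          rw [← Nat.add_sub_cancel' hle', pow_add, pow_mul]
          exact pow_mem hjm _
        exact this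
      · refine hs1 (Subtype.ext ?_)
        obtain ⟨d, rfl⟩ := (pow_dvd_pow q hgt).trans hj
        rw [← hi', pow_mul, hσq, one_pow]
        rfl
    have hmap : ∀ (s : G') (t : Y ⧸ R), t ≠ 1 → (s : Equiv.Perm (Y ⧸ R)) t ≠ 1 := by
      intro s t ht h
      obtain ⟨i', hi'⟩ : ∃ i' : ℕ, σ ^ i' = (s : Equiv.Perm (Y ⧸ R)) :=
        ((isOfFinOrder_of_finite σ).mem_powers_iff_mem_zpowers.2 s.2)
      rw [← hi'] at h
      clear hi'
      induction i' with
      | zero => exact ht h
      | succ i' ih =>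
        rw [pow_succ', Equiv.Perm.mul_apply] at h
        exact ih (hσ1 _ h)
    letI : MulAction G' T :=
      { smul := fun s t => ⟨(s : Equiv.Perm (Y ⧸ R)) t.1, hmap s t.1 t.2⟩
        one_smul := fun t => Subtype.ext rfl
        mul_smul := fun s s' t => Subtype.ext rfl }
    have hσord : orderOf σ = q ^ (e + 1) := by
      refine orderOf_eq_prime_pow ?_ hσq
      intro h
      obtain ⟨y, hy⟩ : ∃ y : Y ⧸ R, y ≠ 1 := by
        by_contra hh
        push Not at hh
        exact hRtop (eq_top_iff.2 fun w _ => (QuotientGroup.eq_one_iff w).1 (hh _))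
      exact hy (hσfix y (by rw [h]; rfl))
    have hst : ∀ t : T, MulAction.stabilizer G' t = ⊥ := fun t => eq_bot_iff.2 fun s hs =>
      Subgroup.mem_bot.2 (hfree s t.1 t.2 (congrArg Subtype.val hs))
    rw [← hσord, ← Nat.card_zpowers, Nat.card_congr (MulAction.selfEquivSigmaOrbitsQuotientStabilizer G' T),
      Nat.card_sigma]
    refine Finset.dvd_sum fun o _ => ?_
    rw [← index_eq_card, hst, index_bot]
  -- arithmetic
  have hb : 1 ≤ b := by
    rcases Nat.eq_zero_or_pos b with rfl | h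
    · exfalso
      refine hRtop (index_eq_one.1 ?_)
      rw [hm, pow_zero, mul_one]
    · exact h
  rw [hm, ← Nat.pow_two, ← Nat.pow_two] at hle
  have hbn : c ^ b ≤ Module.finrank k W := (Nat.pow_le_pow_iff_left (by norm_num)).1 hle
  have hc2 : 2 ≤ c ^ b := le_trans hc.out.two_le (Nat.le_self_pow (by omega) c)
  have hqd : q ∣ (c ^ b + 1) * (c ^ b - 1) := by
    rw [← Nat.sq_sub_sq, one_pow, ← pow_mul, mul_comm b 2]
    exact (dvd_pow_self q (Nat.succ_ne_zero e)).trans hdvd
  have hq1 : q ∣ c ^ b + 1 := by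
    refine (hq.dvd_mul.1 hqd).resolve_right fun h => ?_
    have := Nat.le_of_dvd (by omega) h
    omega
  have hq2 : q = c ^ b + 1 := le_antisymm (Nat.le_of_dvd (by omega) hq1) (by omega)
  have hc' : c = 2 := by
    by_contra h
    have ho : Odd (c ^ b) := (hc.out.odd_of_ne_two h).pow
    rcases hq.eq_two_or_odd' with h2 | h2
    · omega
    · rw [hq2] at h2
      exact (Nat.not_even_iff_odd.2 h2) (ho.add_one)
  subst hc'
  exact ⟨b, rfl, hb, by omega, hq2, hdvd⟩

end CfsgLib.DegComp.Palfy
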