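import Cfsg.Agent.Lib.DegComp.Palfy.CaseTwoTools
import Cfsg.Agent.Lib.DegComp.Relative

/-!
# One prime acts trivially on the derived group of the normal Sylow subgroup
-/

set_option autoImplicit false
set_option linter.style.haveILetI false
set_option linter.unusedSectionVars false

namespace CfsgLib.DegComp.Palfy

open CfsgLib.Coprime
open Subgroup Cfsg
open scoped commutatorElement ComplexConjugate

universe u

/-- A linear character moved by a normal Sylow subgroup has all degrees above it divisible by the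
prime. -/
theorem dvd_degree_of_moved {G : Type u} [Group G] [Fintype G] (Q : Subgroup G) [Q.Normal]
    [Fintype Q] (hd : ∀ m ∈ Q, dual Q m = 1) {t : ℕ} [ht : Fact t.Prime] (P : Sylow t (G ⧸ Q))
    (hn : (P : Subgroup (G ⧸ Q)).Normal) (μ : Q →* ℂˣ)
    (hμ : ∃ x ∈ (P : Subgroup (G ⧸ Q)), dualQ Q Q hd x μ ≠ μ) (χ : IrrCharacter G)
    (h : classInner (fun n : Q => (χ : G → ℂ) n) (linIrr μ : Q → ℂ) ≠ 0) :
    t ∣ charDegree (χ : G → ℂ) := by
  refine dvd_trans ?_ (Block.ItoMichler.dvd_of_constituent Q χ (linIrr μ) h).2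
  by_contra hnd
  obtain ⟨P', hP'⟩ := exists_sylow_le ((Char.inertia Q (linIrr μ : Q → ℂ)).map (QuotientGroup.mk' Q))
    (fun h' => hnd (h'.trans (index_map_dvd _ (QuotientGroup.mk'_surjective Q))))
  obtain rfl := sylow_eq_of_normal P P' hn
  obtain ⟨x, hx, hx'⟩ := hμ
  obtain ⟨g, hg, rfl⟩ := hP' hx
  exact hx' (by rw [dualQ_mk, dual_eq_iff]; exact hg)

/-- The counting contradiction. -/
theorem mixed_case {G : Type u} [Group G] [Fintype G] [Group.IsSolvable G] {q : ℕ}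
    [hq : Fact q.Prime] (Q : Subgroup G) [Q.Normal] [Fintype Q] (hQ : IsPGroup q Q)
    (hidx : ¬ q ∣ Q.index) (N : Subgroup G) [N.Normal] [Fintype N]
    (hc : ∀ a ∈ N, ∀ b ∈ N, a * b = b * a) (hder : ⁅Q, Q⁆ = N)
    (hcent : ∀ n ∈ N, ∀ a ∈ Q, a * n = n * a)
    (hdN : ∀ m ∈ Q, dual N m = 1) (hdQ : ∀ m ∈ Q, dual Q m = 1) {p r : ℕ} [hp : Fact p.Prime]
    [hr : Fact r.Prime] (hpr : p ≠ r) (hqp : q ≠ p) (nqp : ¬ Adj G q p) (npr : ¬ Adj G p r)
    (P : Sylow p (G ⧸ Q)) (hPn : (P : Subgroup (G ⧸ Q)).Normal)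
    (hPN : ∀ x ∈ (P : Subgroup (G ⧸ Q)), dualQ Q N hdN x = 1)
    (hPQ : ∃ μ : Q →* ℂˣ, ∃ x ∈ (P : Subgroup (G ⧸ Q)), dualQ Q Q hdQ x μ ≠ μ)
    (hr' : UniqueFixAb (V := N →* ℂˣ) (dualQ Q N hdN) r)
    (hrd : r ∣ Nat.card (dualQ Q N hdN).range) : False := by
  classical
  have hNQ : N ≤ Q := hder ▸ commutator_le_left Q Q
  obtain ⟨j, hj⟩ := IsPGroup.iff_card.1 hQ
  obtain ⟨H, hH⟩ := Subgroup.exists_right_complement'_of_coprime (N := Q)
    (by rw [hj]; exact (hq.out.coprime_iff_not_dvd.2 hidx).pow_left j)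
  have hsup : Q ⊔ H = ⊤ := Subgroup.IsComplement'.sup_eq_top hH
  have hinf : Q ⊓ H = ⊥ := disjoint_iff.1 (Subgroup.IsComplement'.disjoint hH)
  set φN := dualQ Q N hdN
  set φQ := dualQ Q Q hdQ
  -- the family `D`
  set D : Subgroup (Q →* ℂˣ) :=
    closure {ν | ∃ x ∈ (P : Subgroup (G ⧸ Q)), ∃ μ, ν = φQ x μ * μ⁻¹} with hD
  have hDinv : ∀ y, ∀ v ∈ D, φQ y v ∈ D := by
    intro y v hv
    have h1 : φQ y v ∈ D.map (φQ y).toMonoidHom := mem_map_of_mem _ hv
    refine (?_ : D.map (φQ y).toMonoidHom ≤ D) h1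
    rw [hD, MonoidHom.map_closure, closure_le]
    rintro _ ⟨_, ⟨x, hx, μ, rfl⟩, rfl⟩
    refine subset_closure ⟨y * x * y⁻¹, hPn.conj_mem x hx y, φQ y μ, ?_⟩
    show φQ y (φQ x μ * μ⁻¹) = φQ (y * x * y⁻¹) (φQ y μ) * (φQ y μ)⁻¹
    rw [map_mul, show φQ y μ⁻¹ = (φQ y μ)⁻¹ from map_inv (φQ y) μ, ← MulAut.mul_apply,
      ← MulAut.mul_apply, ← map_mul, ← map_mul, inv_mul_cancel_right]
  haveI : Fintype (P : Subgroup (G ⧸ Q)) := Fintype.ofFinite _
  have hcommQ : ∀ v : Q →* ℂˣ, v ^ Nat.card Q = 1 := fun v => MonoidHom.ext fun x => by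
    rw [MonoidHom.pow_apply, ← map_pow, pow_card_eq_one', map_one]; rfl
  -- no nontrivial fixed point in `D`
  have hDfree : ∀ ν ∈ D, (∀ x ∈ (P : Subgroup (G ⧸ Q)), φQ x ν = ν) → ν = 1 := by
    let Av : (Q →* ℂˣ) →* (Q →* ℂˣ) :=
      { toFun := fun μ => ∏ a : (P : Subgroup (G ⧸ Q)), φQ a μ
        map_one' := by simp
        map_mul' := fun μ μ' => by simp [Finset.prod_mul_distrib] }
    have hle : D ≤ Av.ker := by
      rw [hD, closure_le]
      rintro _ ⟨x, hx, μ, rfl⟩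
      rw [SetLike.mem_coe, MonoidHom.mem_ker, map_mul, show Av μ⁻¹ = (Av μ)⁻¹ from map_inv Av μ]
      refine (mul_inv_eq_one (G := Q →* ℂˣ) (a := Av (φQ x μ)) (b := Av μ)).2 ?_
      show ∏ a : (P : Subgroup (G ⧸ Q)), φQ a (φQ x μ) = ∏ a : (P : Subgroup (G ⧸ Q)), φQ a μ
      refine Fintype.prod_bijective (fun a => a * ⟨x, hx⟩) (Group.mulRight_bijective _) _ _
        fun a => ?_
      show φQ (a : G ⧸ Q) (φQ x μ) = φQ ((a : G ⧸ Q) * x) μ
      rw [map_mul, MulAut.mul_apply]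
    intro ν hν hfix
    have h1 : Av ν = 1 := hle hν
    have h2 : ν ^ Nat.card (P : Subgroup (G ⧸ Q)) = 1 := by
      rw [← h1]
      show _ = ∏ a : (P : Subgroup (G ⧸ Q)), φQ a ν
      rw [Finset.prod_congr rfl fun (a : (P : Subgroup (G ⧸ Q))) _ => hfix a a.2, Finset.prod_const,
        Finset.card_univ, ← Nat.card_eq_fintype_card]
    obtain ⟨i, hi⟩ := IsPGroup.iff_card.1 P.2
    refine hom_eq_one (N := Q) ν (hcommQ ν) h2 ?_
    rw [hj, hi]
    exact Nat.Coprime.pow _ _ ((Nat.coprime_primes hq.out hp.out).2 hqp)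
  haveI hDnt : Nontrivial D := by
    rw [nontrivial_iff_ne_bot]
    intro hb
    obtain ⟨μ, x, hx, hμ⟩ := hPQ
    have : φQ x μ * μ⁻¹ ∈ D := subset_closure ⟨x, hx, μ, rfl⟩
    rw [hb, mem_bot] at this
    exact hμ (mul_inv_eq_one.1 this)
  -- unique fixing on `D`
  set φD := restrictAut φQ D hDinv
  have hrD : UniqueFix φD r := by
    intro v hv
    have hv' : (v : Q →* ℂˣ) ≠ 1 := fun e => hv (Subtype.ext e)
    have hmov : ∃ x ∈ (P : Subgroup (G ⧸ Q)), φQ x (v : Q →* ℂˣ) ≠ v := by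
      by_contra hh
      push Not at hh
      exact hv' (hDfree _ v.2 hh)
    obtain ⟨φ, hφ⟩ := exists_linear_extension Q H hsup hinf (v : Q →* ℂˣ)
    obtain ⟨R, h1, h2, -⟩ := stab_structure Q (linIrr (v : Q →* ℂˣ)) φ hφ (p := r) fun χ hχ hd =>
      npr ⟨χ, ((Nat.coprime_primes hp.out hr.out).2 hpr).mul_dvd_of_dvd_of_dvd
        (dvd_degree_of_moved Q hdQ P hPn _ hmov χ hχ) hd⟩
    obtain ⟨e1, e2⟩ := fix_of_stab Q Q hdQ (v : Q →* ℂˣ) rfl R h1 h2
    exact ⟨R, fun x hx => Subtype.ext (e1 x hx), fun x hx => e2 x (congrArg Subtype.val hx)⟩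
  -- equal cardinalities
  have hqN : IsPGroup q (N →* ℂˣ) := fun f => ⟨j, MonoidHom.ext fun n => by
    rw [MonoidHom.pow_apply, ← map_pow]
    have : n ^ q ^ j = 1 := by
      refine Subtype.ext ?_
      rw [SubgroupClass.coe_pow, ← hj]
      exact congrArg Subtype.val (pow_card_eq_one' (x := (⟨n, hNQ n.2⟩ : Q)))
    rw [this, map_one]; rfl⟩
  have hqD : IsPGroup q D := fun v => ⟨j, Subtype.ext (by
    rw [SubgroupClass.coe_pow, ← hj, hcommQ]; rfl)⟩
  obtain ⟨R⟩ : Nonempty (Sylow r (G ⧸ Q)) := inferInstance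
  have c1 := hr'.uniqueFix.card_eq R
  have c2 := hrD.card_eq R
  obtain ⟨e, he⟩ := IsPGroup.iff_card.1 hqN
  obtain ⟨m, hm⟩ := IsPGroup.iff_card.1 hqD
  obtain ⟨a, ha⟩ := IsPGroup.iff_card.1 (hqN.to_subgroup (fixedSub φN (R : Subgroup (G ⧸ Q))))
  obtain ⟨b, hb⟩ := IsPGroup.iff_card.1 (hqD.to_subgroup (fixedSub φD (R : Subgroup (G ⧸ Q))))
  rw [he, ha] at c1
  rw [hm, hb] at c2
  have hae : a < e := by
    have h1 : a ≤ e := by
      have := card_subgroup_dvd_card (fixedSub φN (R : Subgroup (G ⧸ Q)))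
      rw [ha, he] at this
      exact (Nat.pow_dvd_pow_iff_le_right hq.out.one_lt).1 this
    refine lt_of_le_of_ne h1 fun hae => ?_
    have htop : fixedSub φN (R : Subgroup (G ⧸ Q)) = ⊤ := eq_top_of_card_eq _ (by rw [ha, he, hae])
    have hle : (R : Subgroup (G ⧸ Q)).map φN.rangeRestrict = ⊥ := by
      rw [eq_bot_iff_forall]
      rintro _ ⟨x, hx, rfl⟩
      refine Subtype.ext (MulEquiv.ext fun v => ?_)
      exact (htop ▸ mem_top v : v ∈ fixedSub φN (R : Subgroup (G ⧸ Q))) x hx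
    refine (R.mapSurjective φN.rangeRestrict_surjective).ne_bot_of_dvd_card hrd ?_
    rw [Sylow.coe_mapSurjective, hle]
  have hqe : 1 < q ^ e := Nat.one_lt_pow (by omega) hq.out.one_lt
  have hbm : b < m := by
    have h1 : b ≤ m := by
      have := card_subgroup_dvd_card (fixedSub φD (R : Subgroup (G ⧸ Q)))
      rw [hb, hm] at this
      exact (Nat.pow_dvd_pow_iff_le_right hq.out.one_lt).1 this
    refine lt_of_le_of_ne h1 fun hbm => ?_
    subst hbm
    have hm1 : 1 < q ^ b := hm ▸ Finite.one_lt_card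
    have hn1 : Nat.card (Sylow r (G ⧸ Q)) = 1 :=
      Nat.eq_of_mul_eq_mul_right (show 0 < q ^ b - 1 by omega) (by rw [one_mul]; exact c2.symm)
    rw [hn1, one_mul] at c1
    have := Nat.one_le_pow a q hq.out.pos
    have := Nat.pow_lt_pow_right hq.out.one_lt hae
    omega
  have hcard : Nat.card D = Nat.card N := by
    letI : CommGroup N := { (inferInstance : Group N) with
      mul_comm := fun a b => Subtype.ext (hc a a.2 b b.2) }
    rw [hm, ← CommGroup.card_monoidHom_of_hasEnoughRootsOfUnity N ℂ, he]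
    exact (pow_eq_of_count hq.out c1.symm c2.symm hae hbm).symm
  -- the common kernel of `D`
  let ev : Q →* (D →* ℂˣ) :=
    { toFun := fun y => ⟨⟨fun v => (v : Q →* ℂˣ) y, rfl⟩, fun v w => rfl⟩
      map_one' := MonoidHom.ext fun v => map_one (v : Q →* ℂˣ)
      map_mul' := fun y z => MonoidHom.ext fun v => map_mul (v : Q →* ℂˣ) y z }
  set K0 := ev.ker with hK0
  have hK0idx : K0.index ≤ Nat.card N := by
    rw [hK0, index_ker, ← hcard, ← CommGroup.card_monoidHom_of_hasEnoughRootsOfUnity D ℂ]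
    exact Nat.card_le_card_of_injective _ Subtype.val_injective
  -- nonlinear characters are fixed by the preimage of `P`
  have hθfix : ∀ θ : IrrCharacter Q, (θ : Q → ℂ) 1 ≠ 1 → ∀ g : G,
      QuotientGroup.mk' Q g ∈ (P : Subgroup (G ⧸ Q)) → g ∈ Char.inertia Q (θ : Q → ℂ) := by
    intro θ hθ g hg
    obtain ⟨χ, hχ⟩ := Block.ItoMichler.exists_irr_over Q θ
    obtain ⟨h1, h2⟩ := Block.ItoMichler.dvd_of_constituent Q χ θ hχ
    obtain ⟨i, -, hi⟩ := (Nat.dvd_prime_pow hq.out).1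
      (hj ▸ Char.degree_dvd_card θ (eq_natCast_degree θ) : charDegree (θ : Q → ℂ) ∣ q ^ j)
    have hi0 : i ≠ 0 := fun h0 => hθ (by rw [eq_natCast_degree θ, hi, h0, pow_zero, Nat.cast_one])
    have hqd : q ∣ charDegree (χ : G → ℂ) := (dvd_pow_self q hi0).trans (hi ▸ h1)
    obtain ⟨P', hP'⟩ := exists_sylow_le ((Char.inertia Q (θ : Q → ℂ)).map (QuotientGroup.mk' Q))
      (fun h' => nqp ⟨χ, ((Nat.coprime_primes hq.out hp.out).2 hqp).mul_dvd_of_dvd_of_dvd hqd
        ((h'.trans (index_map_dvd _ (QuotientGroup.mk'_surjective Q))).trans h2)⟩)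
    obtain rfl := sylow_eq_of_normal P P' hPn
    obtain ⟨g', hg', hgg⟩ := hP' hg
    have h3 : g'⁻¹ * g ∈ Q := QuotientGroup.eq.1 hgg
    have h4 := mul_mem hg' (Char.le_inertia Q (Char.isClassFunction_irr θ) h3)
    rwa [mul_inv_cancel_left] at h4
  have hvanish : ∀ θ : IrrCharacter Q, (θ : Q → ℂ) 1 ≠ 1 → ∀ y : Q, y ∉ K0 → (θ : Q → ℂ) y = 0 := by
    intro θ hθ y hy
    let S : Subgroup (Q →* ℂˣ) :=
      { carrier := {ν | ∀ z : Q, (ν z : ℂ) * (θ : Q → ℂ) z = (θ : Q → ℂ) z}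
        one_mem' := fun z => by simp
        mul_mem' := fun ha hb z => by
          rw [MonoidHom.mul_apply, Units.val_mul, mul_assoc, hb z, ha z]
        inv_mem' := fun {ν} ha z => by
          have h1 := ha z
          conv_lhs => rw [← h1]
          rw [MonoidHom.inv_apply, ← mul_assoc, ← Units.val_mul, inv_mul_cancel, Units.val_one,
            one_mul] }
    have hle : D ≤ S := by
      rw [hD, closure_le]
      rintro _ ⟨x, hx, μ, rfl⟩ z
      obtain ⟨g, rfl⟩ := QuotientGroup.mk'_surjective Q x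
      have hgθ : ∀ θ' : IrrCharacter Q, (θ' : Q → ℂ) 1 ≠ 1 → ∀ w : Q,
          (θ' : Q → ℂ) (Char.normalConjHom Q g⁻¹ w) = (θ' : Q → ℂ) w := fun θ' hθ' w =>
        congrFun ((Char.mem_inertia Q _ g⁻¹).1 (inv_mem (hθfix θ' hθ' g hx))) w
      have h1 := hgθ θ hθ z
      have h2 := hgθ (Char.linMul μ θ) (by
        show (μ 1 : ℂ) * (θ : Q → ℂ) 1 ≠ 1
        rwa [map_one, Units.val_one, one_mul]) z
      change (μ (Char.normalConjHom Q g⁻¹ z) : ℂ) * (θ : Q → ℂ) (Char.normalConjHom Q g⁻¹ z) =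
        (μ z : ℂ) * (θ : Q → ℂ) z at h2
      rw [h1] at h2
      have h3 : φQ (QuotientGroup.mk' Q g) μ z = μ (Char.normalConjHom Q g⁻¹ z) :=
        congrArg μ (Subtype.ext (by simp [Char.normalConjHom]))
      show ((φQ (QuotientGroup.mk' Q g) μ * μ⁻¹) z : ℂ) * _ = _
      rw [MonoidHom.mul_apply, MonoidHom.inv_apply, h3, Units.val_mul, mul_comm (_ : ℂ) (((μ z)⁻¹ : ℂˣ) : ℂ),
        mul_assoc, h2, ← mul_assoc, ← Units.val_mul, inv_mul_cancel, Units.val_one, one_mul]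
    obtain ⟨v, hv⟩ : ∃ v : D, (v : Q →* ℂˣ) y ≠ 1 := by
      by_contra hh
      push Not at hh
      exact hy (MonoidHom.ext hh)
    by_contra hne
    exact hv (Units.ext ((mul_eq_right₀ hne).1 (hle v.2 y)))
  -- an element `x` outside `K0` centralizing `K0`
  obtain ⟨g, hg, y, hx⟩ : ∃ g : G, QuotientGroup.mk' Q g ∈ (P : Subgroup (G ⧸ Q)) ∧ ∃ y : Q,
      y⁻¹ * MulAut.conjNormal (H := Q) g y ∉ K0 := by
    by_contra hh
    push Not at hh
    obtain ⟨v, hv⟩ := exists_ne (1 : D)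
    refine hv (Subtype.ext (hDfree v v.2 fun x hx => ?_))
    obtain ⟨g, rfl⟩ := QuotientGroup.mk'_surjective Q x
    refine MonoidHom.ext fun y => ?_
    have h1 := DFunLike.congr_fun (hh g⁻¹ (by rw [map_inv]; exact inv_mem hx) y) v
    change (v : Q →* ℂˣ) (y⁻¹ * MulAut.conjNormal (H := Q) g⁻¹ y) = 1 at h1
    rw [map_mul, map_inv, inv_mul_eq_one] at h1
    exact h1.symm
  set x : Q := y⁻¹ * MulAut.conjNormal (H := Q) g y with hxdef
  have hKC : K0 ≤ centralizer ({x} : Set Q) := by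
    intro c hcK
    -- `g` fixes `c` modulo `N`
    have hgc : ((c⁻¹ * MulAut.conjNormal (H := Q) g c : Q) : G) ∈ N := by
      rw [← hder]
      refine mem_of_forall_lin Q _ fun μ => ?_
      have hmem : φQ (QuotientGroup.mk' Q g)⁻¹ μ * μ⁻¹ ∈ D :=
        subset_closure ⟨_, inv_mem hg, μ, rfl⟩
      have h1 := DFunLike.congr_fun hcK ⟨_, hmem⟩
      change (φQ (QuotientGroup.mk' Q g)⁻¹ μ * μ⁻¹) c = 1 at h1
      rw [MonoidHom.mul_apply, MonoidHom.inv_apply, mul_inv_eq_one, ← map_inv] at h1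
      have h2 : φQ (QuotientGroup.mk' Q g⁻¹) μ c = μ (MulAut.conjNormal (H := Q) g c) :=
        congrArg μ (Subtype.ext (by simp))
      rw [h2] at h1
      rw [map_mul, map_inv, inv_mul_eq_one]
      exact h1.symm
    -- `g` fixes `N`
    have hgN : ∀ n ∈ N, g * n * g⁻¹ = n := by
      intro n hn
      letI : CommGroup N := { (inferInstance : Group N) with
        mul_comm := fun a b => Subtype.ext (hc a a.2 b b.2) }
      by_contra hne
      set n0 : N := ⟨n, hn⟩
      set n1 : N := MulAut.conjNormal (H := N) g n0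
      have hne' : n0⁻¹ * n1 ≠ 1 := fun e => hne (by
        rw [inv_mul_eq_one] at e
        exact ((congrArg Subtype.val e).trans (MulAut.conjNormal_apply g n0)).symm)
      obtain ⟨f, hf⟩ := CommGroup.exists_apply_ne_one_of_hasEnoughRootsOfUnity N ℂ hne'
      refine hf ?_
      rw [map_mul, map_inv, inv_mul_eq_one]
      have h1 := DFunLike.congr_fun (show dual N g⁻¹ f = f by
        rw [← dualQ_mk Q N hdN, hPN _ (by rw [map_inv]; exact inv_mem hg)]; rfl) n0
      rw [← h1]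
      exact congrArg f (Subtype.ext (by simp [n1]))
    rw [mem_centralizer_singleton_iff]
    refine Subtype.ext ?_
    set yv : G := (y : G)
    set cv : G := (c : G)
    set y' : G := g * yv * g⁻¹
    set c' : G := g * cv * g⁻¹
    have hn : cv⁻¹ * c' ∈ N := by simpa [c', cv] using hgc
    have hy'Q : y' ∈ Q := (inferInstance : Q.Normal).conj_mem yv y.2 g
    have hc'eq : c' = cv * (cv⁻¹ * c') := (mul_inv_cancel_left _ _).symm
    have hcomm : ⁅yv, cv⁆ ∈ N := hder ▸ commutator_mem_commutator y.2 c.2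
    have h1 : ⁅y', c'⁆ = ⁅yv, cv⁆ := by
      have : ⁅y', c'⁆ = g * ⁅yv, cv⁆ * g⁻¹ := by
        simp only [y', c', commutatorElement_def]; group
      rw [this, hgN _ hcomm]
    have h2 : ⁅y', c'⁆ = ⁅y', cv⁆ := by
      rw [hc'eq]
      generalize cv⁻¹ * c' = n at hn ⊢
      have hy'n := hcent n hn y' hy'Q
      simp only [commutatorElement_def, mul_inv_rev]
      calc y' * (cv * n) * y'⁻¹ * (n⁻¹ * cv⁻¹) = y' * cv * (n * y'⁻¹ * n⁻¹) * cv⁻¹ := by group
        _ = y' * cv * y'⁻¹ * cv⁻¹ := by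
          rw [← hcent n hn _ (inv_mem hy'Q), mul_inv_cancel_right]
    have h3 : y' * cv * y'⁻¹ = yv * cv * yv⁻¹ := by
      have := h2.symm.trans h1
      simp only [commutatorElement_def] at this
      exact mul_right_cancel this
    show cv * ((x : Q) : G) = ((x : Q) : G) * cv
    have hxv : ((x : Q) : G) = yv⁻¹ * y' := by simp [x, y', yv]
    rw [hxv]
    calc cv * (yv⁻¹ * y') = yv⁻¹ * (yv * cv * yv⁻¹) * y' := by group
      _ = yv⁻¹ * (y' * cv * y'⁻¹) * y' := by rw [h3]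
      _ = yv⁻¹ * y' * cv := by group
  -- column orthogonality
  have hCidx : (centralizer ({x} : Set Q)).index = Nat.card N := by
    haveI := Fintype.ofFinite (IrrCharacter Q)
    have h1 := Char.sum_irr_mul_conj (G := Q) x x
    rw [if_pos (IsConj.refl x)] at h1
    have h2 : ∀ θ : IrrCharacter Q, (θ : Q → ℂ) x * conj ((θ : Q → ℂ) x) =
        if (θ : Q → ℂ) 1 = 1 then 1 else 0 := by
      intro θ
      split_ifs with hθ
      · obtain ⟨f, rfl⟩ := exists_hom_of_degree_one θ hθ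
        rw [linIrr_apply, Char.RealPPrime.conj_lin, ← Units.val_mul, mul_inv_cancel, Units.val_one]
      · rw [hvanish θ hθ x hx, zero_mul]
    rw [Finset.sum_congr rfl fun θ _ => h2 θ, Finset.sum_boole] at h1
    have h3 : Nat.card (centralizer ({x} : Set Q)) = (commutator Q).index := by
      rw [← Char.card_linear,
        Nat.card_eq_fintype_card (α := {θ : IrrCharacter Q // (θ : Q → ℂ) 1 = 1}), Fintype.card_subtype]
      exact_mod_cast h1.symm
    have h4 : Nat.card (commutator Q) = Nat.card N := by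
      rw [← hder, ← map_subtype_commutator, card_map_of_injective Q.subtype_injective]
    have h5 := (centralizer ({x} : Set Q)).card_mul_index
    rw [← (commutator Q).card_mul_index, h3, mul_comm (Nat.card (commutator Q))] at h5
    rw [← h4]
    exact Nat.eq_of_mul_eq_mul_left (Nat.pos_of_ne_zero index_ne_zero_of_finite) h5
  have hlt : (centralizer ({x} : Set Q)).index < K0.index := by
    refine index_strictAnti (lt_of_le_of_ne hKC fun e => ?_)
    exact hx (e ▸ mem_centralizer_singleton_iff.2 rfl)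
  omega

end CfsgLib.DegComp.Palfy
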