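import Cfsg.Agent.Lib.DegComp.Palfy.UniqueSylowMain
import Cfsg.Agent.Lib.DegComp.Solvable
import Cfsg.Agent.Lib.Char.RealPPrime.Induced
import Cfsg.Agent.Lib.PGroup.MaxPNilpotent
import Cfsg.Agent.Lib.Char.ConstDegreeMinusValue.Kernel

/-!
# Stabilizers of characters below characters of degree prime to `p`

The degree bookkeeping used for the three primes theorem.
-/

set_option autoImplicit false
set_option linter.style.haveILetI false
set_option linter.unusedSectionVars false

namespace CfsgLib.DegComp.Palfy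

open CfsgLib.Coprime
open Subgroup Cfsg

universe u

variable {G : Type u} [Group G] [Finite G]

/-- `p` divides some irreducible degree. -/
def Rho (G : Type u) [Group G] (p : ℕ) : Prop := ∃ χ : IrrCharacter G, p ∣ charDegree (χ : G → ℂ)

/-- The primes lie in one irreducible degree. -/
def Adj (G : Type u) [Group G] (p r : ℕ) : Prop :=
  ∃ χ : IrrCharacter G, p * r ∣ charDegree (χ : G → ℂ)

theorem charDegree_of_one {H : Type u} [Group H] {χ : H → ℂ} {d : ℕ} (h : χ 1 = (d : ℂ)) :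
    charDegree χ = d := by
  simp [charDegree, h]

/-- Degrees of images are degrees. -/
theorem exists_lift {H : Type u} [Group H] {f : G →* H} (hf : Function.Surjective f)
    (β : IrrCharacter H) : ∃ χ : IrrCharacter G, charDegree (χ : G → ℂ) = charDegree (β : H → ℂ) :=
  ⟨⟨fun g => (β : H → ℂ) (f g), Char.isIrrCharacter_comp_surjective β.2 f hf⟩, by
    simp [charDegree]⟩

theorem Rho.of_quotient {N : Subgroup G} [N.Normal] {p : ℕ} (h : Rho (G ⧸ N) p) : Rho G p := by
  obtain ⟨β, hβ⟩ := h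
  obtain ⟨χ, hχ⟩ := exists_lift (QuotientGroup.mk'_surjective N) β
  exact ⟨χ, hχ ▸ hβ⟩

theorem Adj.of_surjective {H : Type u} [Group H] {f : G →* H} (hf : Function.Surjective f) {p r : ℕ}
    (h : Adj H p r) : Adj G p r := by
  obtain ⟨β, hβ⟩ := h
  obtain ⟨χ, hχ⟩ := exists_lift hf β
  exact ⟨χ, hχ ▸ hβ⟩

theorem Adj.symm {p r : ℕ} (h : Adj G p r) : Adj G r p := by
  rwa [Adj, mul_comm] at h

/-- Itô-Michler. -/
theorem sylow_of_not_rho [Group.IsSolvable G] {p : ℕ} [hp : Fact p.Prime] (h : ¬ Rho G p)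
    (P : Sylow p G) :
    (P : Subgroup G).Normal ∧ IsMulCommutative (P : Subgroup G) := by
  have hdeg : ∀ χ : IrrCharacter G, ¬ p ∣ charDegree (χ : G → ℂ) := fun χ hχ => h ⟨χ, hχ⟩
  have hn := Block.ItoMichler.normal_sylow G
    (CfsgLib.PGroup.MaxPNilpotent.isPSolvable_of_solvable hp.out _ G rfl inferInstance) hdeg P
  haveI := hn
  exact ⟨hn, Block.ItoMichler.comm_of_degrees hdeg P P.2⟩

/-- Itô. -/
theorem not_rho_of_sylow {p : ℕ} [Fact p.Prime] (P : Sylow p G) (hn : (P : Subgroup G).Normal)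
    (hc : IsMulCommutative (P : Subgroup G)) : ¬ Rho G p := by
  haveI := hn
  rintro ⟨χ, hχ⟩
  exact Block.ItoMichler.degrees_of_abelian (P : Subgroup G)
    (fun a ha b hb => congrArg Subtype.val (hc.is_comm.comm (⟨a, ha⟩ : (P : Subgroup G)) ⟨b, hb⟩))
    P.not_dvd_index χ hχ

theorem eq_natCast_degree (χ : IrrCharacter G) :
    (χ : G → ℂ) 1 = (charDegree (χ : G → ℂ) : ℂ) := Block.ItoMichler.one_eq_cast χ

/-- A character with all values at `N` equal to the degree comes from the quotient. -/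
theorem exists_descend (N : Subgroup G) [N.Normal] (χ : IrrCharacter G)
    (h : ∀ n ∈ N, (χ : G → ℂ) n = (χ : G → ℂ) 1) :
    ∃ β : IrrCharacter (G ⧸ N), charDegree (β : G ⧸ N → ℂ) = charDegree (χ : G → ℂ) := by
  obtain ⟨χ, d, ρ, hρ, rfl⟩ := χ
  have hN : N ≤ MonoidHom.ker ρ := fun n hn => by
    have h1 : ρ.character n = ρ.character 1 := h n hn
    rw [Representation.char_one] at h1
    exact MonoidHom.mem_ker.2 ((Char.char_eq_degree_iff ρ n).1 h1)
  let σ : Representation ℂ (G ⧸ N) (Fin d → ℂ) := QuotientGroup.lift N ρ hN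
  have hcomp : (σ.comp (QuotientGroup.mk' N) : Representation ℂ G (Fin d → ℂ)) = ρ :=
    MonoidHom.ext fun g => rfl
  refine ⟨⟨σ.character, d, σ, Char.ConstDegree.irr_descend (QuotientGroup.mk' N)
    (QuotientGroup.mk'_surjective N) σ (hcomp.symm ▸ hρ), rfl⟩, ?_⟩
  show charDegree σ.character = charDegree ρ.character
  simp [charDegree, Representation.char_one]

variable [Fintype G]

/-- All characters over an extendible character of a normal subgroup. -/
theorem exists_degree_over (N : Subgroup G) [N.Normal] [Fintype N] (θ : IrrCharacter N)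
    (φ : IrrCharacter (Char.inertia N (θ : N → ℂ)))
    (hφ : ∀ (n : N) (h : (n : G) ∈ Char.inertia N (θ : N → ℂ)),
      (φ : Char.inertia N (θ : N → ℂ) → ℂ) ⟨(n : G), h⟩ = (θ : N → ℂ) n)
    (β : IrrCharacter (Char.inertia N (θ : N → ℂ) ⧸ N.subgroupOf (Char.inertia N (θ : N → ℂ)))) :
    ∃ χ : IrrCharacter G, classInner (fun n : N => (χ : G → ℂ) n) (θ : N → ℂ) ≠ 0 ∧
      charDegree (χ : G → ℂ) = (Char.inertia N (θ : N → ℂ)).index *
        (charDegree (θ : N → ℂ) *
          charDegree (β : Char.inertia N (θ : N → ℂ) ⧸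
            N.subgroupOf (Char.inertia N (θ : N → ℂ)) → ℂ)) := by
  classical
  revert φ hφ β
  set I := Char.inertia N (θ : N → ℂ) with hI
  intro φ hφ β
  have hNI : N ≤ I := Char.le_inertia N (Char.isClassFunction_irr θ)
  haveI := Fintype.ofFinite I
  haveI := Fintype.ofFinite (N.subgroupOf I)
  haveI := Fintype.ofFinite (I ⧸ N.subgroupOf I)
  have hres : IsIrrCharacter (N.subgroupOf I) (fun l : N.subgroupOf I => (φ : I → ℂ) l) := by
    have e : (fun l : N.subgroupOf I => (φ : I → ℂ) l) =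
        fun l => (θ : N → ℂ) (subgroupOfEquivOfLe hNI l) := funext fun l => by
      rw [← hφ]; rfl
    rw [e]
    exact Char.isIrrCharacter_comp_surjective θ.2 (subgroupOfEquivOfLe hNI).toMonoidHom
      (subgroupOfEquivOfLe hNI).surjective
  set ψ : IrrCharacter I := ⟨_, isIrr_mul_quot (N.subgroupOf I) φ hres β⟩ with hψ
  have hψN : (fun n : N => (ψ : I → ℂ) (inclusion hNI n)) =
      (charDegree (β : I ⧸ N.subgroupOf I → ℂ) : ℂ) • (θ : N → ℂ) := funext fun n => by
    show (φ : I → ℂ) (inclusion hNI n) * (β : _ → ℂ) ((inclusion hNI n : I) : I ⧸ N.subgroupOf I) = _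
    rw [(QuotientGroup.eq_one_iff (inclusion hNI n)).2 n.2, eq_natCast_degree β, Pi.smul_apply,
      smul_eq_mul, mul_comm]
    congr 1
    exact hφ n (hNI n.2)
  obtain ⟨dβ, hdβ0, hdβ⟩ := Char.isIrrCharacter_degree β.2
  have hinner : classInner (fun n : N => (ψ : I → ℂ) (inclusion hNI n)) (θ : N → ℂ) ≠ 0 := by
    rw [hψN, Char.classInner_smul_left, Char.classInner_irr_self, mul_one, charDegree_of_one hdβ,
      Nat.cast_ne_zero]
    exact hdβ0.ne'
  have hirr := Char.RealPPrime.isIrrCharacter_indFun_inertia N θ.2 hNI ψ hinner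
  refine ⟨⟨_, hirr⟩, ?_, ?_⟩
  · have h2 : classInner (fun t : I => indFun I (ψ : I → ℂ) t) (ψ : I → ℂ) ≠ 0 := by
      intro e
      have h1 := Char.classInner_irr_self (⟨_, hirr⟩ : IrrCharacter G)
      rw [Char.classInner_indFun I _ _ (Char.isClassFunction_irr ⟨_, hirr⟩), ← Char.classInner_conj,
        show (fun t : I => ((⟨_, hirr⟩ : IrrCharacter G) : G → ℂ) t) =
          fun t : I => indFun I (ψ : I → ℂ) t from rfl, e, map_zero] at h1
      exact zero_ne_one h1
    exact Char.RealPPrime.classInner_comp_ne_zero (inclusion hNI)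
      (Char.isCharacter_comp (Char.isCharacter_irr ⟨_, hirr⟩) I.subtype) ψ h2
      (Char.isCharacter_of_isIrr θ.2) hinner
  · refine charDegree_of_one ?_
    show indFun I (ψ : I → ℂ) 1 = _
    rw [Char.indFun_one]
    push_cast
    congr 1
    show (φ : I → ℂ) 1 * (β : _ → ℂ) ((1 : I) : I ⧸ N.subgroupOf I) = _
    rw [show ((1 : I) : I ⧸ N.subgroupOf I) = 1 from rfl, eq_natCast_degree β,
      ← eq_natCast_degree θ]
    congr 1
    exact hφ 1 (one_mem _)

/-- `p`-free degrees over an extendible character: the image of its stabilizer in a quotient by `N`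
contains a Sylow `p`-subgroup, abelian and normal in it. -/
theorem stab_structure [Group.IsSolvable G] (N : Subgroup G) [N.Normal] [Fintype N]
    (θ : IrrCharacter N) (φ : IrrCharacter (Char.inertia N (θ : N → ℂ)))
    (hφ : ∀ (n : N) (h : (n : G) ∈ Char.inertia N (θ : N → ℂ)),
      (φ : Char.inertia N (θ : N → ℂ) → ℂ) ⟨(n : G), h⟩ = (θ : N → ℂ) n)
    {p : ℕ} [hp : Fact p.Prime]
    (hdeg : ∀ χ : IrrCharacter G, classInner (fun n : N => (χ : G → ℂ) n) (θ : N → ℂ) ≠ 0 →
      ¬ p ∣ charDegree (χ : G → ℂ)) :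
    ∃ P : Sylow p (G ⧸ N), (P : Subgroup (G ⧸ N)) ≤
        (Char.inertia N (θ : N → ℂ)).map (QuotientGroup.mk' N) ∧
      (Char.inertia N (θ : N → ℂ)).map (QuotientGroup.mk' N) ≤
        normalizer ((P : Subgroup (G ⧸ N)) : Set (G ⧸ N)) ∧
      IsMulCommutative (P : Subgroup (G ⧸ N)) := by
  classical
  revert φ hφ hdeg
  set I := Char.inertia N (θ : N → ℂ) with hI
  intro φ hφ hdeg
  set π := QuotientGroup.mk' N
  set S := I.map π with hS
  have hnd : ∀ β, ¬ p ∣ I.index * (charDegree (θ : N → ℂ) *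
      charDegree ((β : IrrCharacter (I ⧸ N.subgroupOf I)) : I ⧸ N.subgroupOf I → ℂ)) := by
    intro β hd
    obtain ⟨χ, h1, h2⟩ := exists_degree_over N θ φ hφ β
    exact hdeg χ h1 (h2 ▸ hd)
  let f : I →* S := π.subgroupMap I
  have hfs : Function.Surjective f := π.subgroupMap_surjective I
  have hker : N.subgroupOf I = f.ker := by
    ext t
    rw [MonoidHom.mem_ker, mem_subgroupOf, Subtype.ext_iff]
    exact (QuotientGroup.eq_one_iff (t : G)).symm
  let e : I ⧸ N.subgroupOf I ≃* S :=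
    (QuotientGroup.quotientMulEquivOfEq hker).trans (QuotientGroup.quotientKerEquivOfSurjective f hfs)
  haveI := Fintype.ofFinite I
  have hSρ : ¬ Rho S p := fun ⟨γ, hγ⟩ => by
    obtain ⟨β, hβ⟩ := exists_lift (f := e.toMonoidHom) e.surjective γ
    exact hnd β (dvd_mul_of_dvd_right (dvd_mul_of_dvd_right (hβ ▸ hγ) _) _)
  have hidx : ¬ p ∣ I.index := by
    obtain ⟨γ⟩ : Nonempty (IrrCharacter (I ⧸ N.subgroupOf I)) :=
      ⟨⟨fun g => ((1 : (I ⧸ N.subgroupOf I) →* ℂˣ) g : ℂ), Char.isIrrCharacter_lin 1⟩⟩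
    exact fun h => hnd γ (dvd_mul_of_dvd_left h _)
  haveI : Group.IsSolvable (G ⧸ N) := Group.isSolvable_of_surjective (QuotientGroup.mk'_surjective N)
  obtain ⟨P0⟩ : Nonempty (Sylow p S) := inferInstance
  obtain ⟨hn, hc⟩ := sylow_of_not_rho hSρ P0
  set PX : Subgroup (G ⧸ N) := (P0 : Subgroup S).map S.subtype
  have hPXp : IsPGroup p PX := P0.2.map _
  have hSidx : ¬ p ∣ S.index := fun h =>
    hidx (h.trans (index_map_dvd I (QuotientGroup.mk'_surjective N)))
  have hPXidx : ¬ p ∣ PX.index := by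
    rw [← relIndex_mul_index (map_subtype_le (P0 : Subgroup S)), relIndex, subgroupOf,
      comap_map_eq_self_of_injective S.subtype_injective]
    exact fun h => (hp.out.dvd_mul.1 h).elim (P0.not_dvd_index) hSidx
  refine ⟨hPXp.toSylow hPXidx, ?_, ?_, ?_⟩
  · rw [IsPGroup.toSylow_coe]; exact map_subtype_le _
  · rw [IsPGroup.toSylow_coe]
    intro x hx
    haveI := hn
    have hfwd : ∀ y ∈ S, ∀ z ∈ PX, y * z * y⁻¹ ∈ PX := by
      rintro y hy _ ⟨z, hz, rfl⟩
      exact ⟨⟨y, hy⟩ * z * ⟨y, hy⟩⁻¹, hn.conj_mem z hz _, rfl⟩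
    refine mem_normalizer_iff.2 fun z => ⟨hfwd x hx z, fun h => ?_⟩
    have := hfwd _ (inv_mem hx) _ h
    simpa [mul_assoc] using this
  · rw [IsPGroup.toSylow_coe]
    refine ⟨⟨fun a b => Subtype.ext ?_⟩⟩
    obtain ⟨a', ha', hae⟩ := a.2
    obtain ⟨b', hb', hbe⟩ := b.2
    show (a : G ⧸ N) * b = b * a
    rw [← hae, ← hbe]
    exact congrArg (fun t : (P0 : Subgroup S) => ((t : S) : G ⧸ N))
      (hc.is_comm.comm ⟨a', ha'⟩ ⟨b', hb'⟩)

/-- A linear character extends to its stabilizer across a complement. -/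
theorem exists_linear_extension (N : Subgroup G) [N.Normal] (H : Subgroup G) (hsup : N ⊔ H = ⊤)
    (hinf : N ⊓ H = ⊥) (lam : N →* ℂˣ) :
    ∃ φ : IrrCharacter (Char.inertia N fun n => (lam n : ℂ)),
      ∀ (n : N) (h : (n : G) ∈ Char.inertia N fun n => (lam n : ℂ)),
        (φ : (Char.inertia N fun n => (lam n : ℂ)) → ℂ) ⟨(n : G), h⟩ = (lam n : ℂ) := by
  set I := Char.inertia N fun n => (lam n : ℂ)
  have hNI : N ≤ I :=
    Char.le_inertia N (Char.isClassFunction_irr ⟨_, Char.isIrrCharacter_lin lam⟩)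
  obtain ⟨f, hf⟩ := Char.RealPPrime.exists_extend N H I
    (fun h _ => (mem_sup_of_normal_left (s := N) (t := H)).1 (hsup ▸ mem_top h))
    (fun x hx hx' => mem_bot.1 (hinf ▸ mem_inf.2 ⟨hx, hx'⟩)) lam
    (fun s _ hsI v v' hv => by
      have h1 := Units.ext (congrFun ((Char.mem_inertia N _ s).1 hsI) v)
      rw [← h1]
      exact congrArg lam (Subtype.ext hv))
    hNI (fun s _ _ v hv => (inferInstance : N.Normal).conj_mem v hv s)
  exact ⟨⟨_, Char.isIrrCharacter_lin f⟩, fun n h =>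
    congrArg Units.val (hf n 1 ⟨(n : G), h⟩ (one_mem H) (mul_one _).symm)⟩

end CfsgLib.DegComp.Palfy
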