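import Cfsg.Agent.Lib.DegComp.Palfy.DualAction

/-!
# Character tools for the three primes theorem
-/

set_option autoImplicit false
set_option linter.style.haveILetI false
set_option linter.unusedSectionVars false

namespace CfsgLib.DegComp.Palfy

open CfsgLib.Coprime
open Subgroup Cfsg
open scoped commutatorElement

universe u

variable {G : Type u} [Group G] [Finite G]

/-- The irreducible character of a homomorphism to `ℂˣ`. -/
noncomputable def linIrr {H : Type u} [Group H] [Finite H] (f : H →* ℂˣ) : IrrCharacter H :=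
  ⟨_, Char.isIrrCharacter_lin f⟩

theorem linIrr_apply {H : Type u} [Group H] [Finite H] (f : H →* ℂˣ) (x : H) :
    (linIrr f : H → ℂ) x = (f x : ℂ) := rfl

theorem charDegree_linIrr {H : Type u} [Group H] [Finite H] (f : H →* ℂˣ) :
    charDegree (linIrr f : H → ℂ) = 1 :=
  charDegree_of_one (by rw [linIrr_apply, map_one, Units.val_one, Nat.cast_one])

/-- An irreducible character of degree one is linear. -/
theorem exists_hom_of_degree_one {H : Type u} [Group H] [Finite H] (θ : IrrCharacter H)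
    (h : (θ : H → ℂ) 1 = 1) : ∃ f : H →* ℂˣ, linIrr f = θ := by
  obtain ⟨f, hf⟩ := (Char.linearCharEquiv (G := H)).surjective ⟨θ, h⟩
  exact ⟨f, congrArg Subtype.val hf⟩

/-- If no nonprincipal constituent occurs in the restriction, the kernel contains the subgroup. -/
theorem eq_one_of_constituents [Fintype G] (N : Subgroup G) [Fintype N] (χ : IrrCharacter G)
    {n : G} (hn : n ∈ N)
    (h : ∀ θ : IrrCharacter N, classInner (fun n : N => (χ : G → ℂ) n) (θ : N → ℂ) ≠ 0 →
      (θ : N → ℂ) ⟨n, hn⟩ = (θ : N → ℂ) 1) :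
    (χ : G → ℂ) n = (χ : G → ℂ) 1 := by
  classical
  have := Fintype.ofFinite (IrrCharacter N)
  have he := Char.classFun_expand (f := fun m : N => (χ : G → ℂ) m) (Char.isClassFunction_of_isCharacter
    (Char.isCharacter_comp (Char.isCharacter_irr χ) N.subtype))
  have h1 := congrFun he ⟨n, hn⟩
  have h2 := congrFun he 1
  simp only [Finset.sum_apply, Pi.smul_apply, OneMemClass.coe_one] at h1 h2
  rw [h1, h2]
  refine Finset.sum_congr rfl fun θ _ => ?_
  by_cases hθ : classInner (fun m : N => (χ : G → ℂ) m) (θ : N → ℂ) = 0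
  · simp [hθ]
  · rw [h θ hθ]

/-- A degree of the group is one of the quotient, or lies over a nontrivial linear character. -/
theorem rho_quotient_or [Fintype G] (N : Subgroup G) [N.Normal] [Fintype N]
    (hc : ∀ a ∈ N, ∀ b ∈ N, a * b = b * a) {p : ℕ} (hp : Rho G p) :
    Rho (G ⧸ N) p ∨ ∃ f : N →* ℂˣ, f ≠ 1 ∧ ∃ χ : IrrCharacter G,
      classInner (fun n : N => (χ : G → ℂ) n) (linIrr f : N → ℂ) ≠ 0 ∧
        p ∣ charDegree (χ : G → ℂ) := by
  obtain ⟨χ, hχ⟩ := hp
  by_cases hc' : ∀ n ∈ N, (χ : G → ℂ) n = (χ : G → ℂ) 1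
  · obtain ⟨β, hβ⟩ := exists_descend N χ hc'
    exact Or.inl ⟨β, hβ ▸ hχ⟩
  refine Or.inr (by_contra fun hh => hc' fun n hn => eq_one_of_constituents N χ hn (fun θ hθ => ?_))
  push Not at hh
  have h1 : (θ : N → ℂ) 1 = 1 := Char.degree_one_of_comm
    (fun a b => Subtype.ext (hc a a.2 b b.2)) θ
  obtain ⟨f, hf⟩ := exists_hom_of_degree_one θ h1
  subst hf
  by_cases hf1 : f = 1
  · subst hf1; rfl
  · exact absurd hχ (hh f hf1 χ hθ)

/-- A homomorphism on an abelian group vanishes when its conjugates by a group of coprime order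
agree and only the identity is fixed. -/
theorem eq_one_of_fixed (N : Subgroup G) [N.Normal] (hc : ∀ a ∈ N, ∀ b ∈ N, a * b = b * a)
    (A : Subgroup G) (hcop : (Nat.card A).Coprime (Nat.card N))
    (hfree : ∀ n ∈ N, (∀ a ∈ A, a * n * a⁻¹ = n) → n = 1) (f : N →* ℂˣ)
    (hf : ∀ a ∈ A, dual N a f = f) : f = 1 := by
  classical
  letI : CommGroup N := { (inferInstance : Group N) with
    mul_comm := fun a b => Subtype.ext (hc a a.2 b b.2) }
  haveI := Fintype.ofFinite A
  refine MonoidHom.ext fun n => ?_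
  let c : A → N → N := fun a => MulAut.conjNormal (a : G)
  have hfix : ∏ a : A, c a n = 1 := by
    refine Subtype.ext (hfree _ (∏ a : A, c a n).2 fun b hb => ?_)
    have h1 : MulAut.conjNormal (b : G) (∏ a : A, c a n) = ∏ a : A, c a n := by
      rw [map_prod]
      refine Fintype.prod_bijective (fun a => (⟨b, hb⟩ : A) * a) (Group.mulLeft_bijective _) _ _
        fun a => ?_
      show MulAut.conjNormal b (MulAut.conjNormal (a : G) n) = MulAut.conjNormal (b * (a : G)) n
      rw [map_mul, MulAut.mul_apply]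
    exact (MulAut.conjNormal_apply b _).symm.trans (congrArg Subtype.val h1)
  have h2 : ∀ a : A, f (c a n) = f n := fun a => by
    have h := DFunLike.congr_fun (hf (a : G)⁻¹ (inv_mem a.2)) n
    rw [dual_apply] at h
    rw [← h]
    exact congrArg f (Subtype.ext (by simp [c]))
  have h3 : f n ^ Nat.card A = 1 := by
    have h := congrArg f hfix
    rw [map_prod, map_one, Finset.prod_congr rfl fun a _ => h2 a, Finset.prod_const,
      Finset.card_univ, ← Nat.card_eq_fintype_card] at h
    exact h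
  have h4 : f n ^ Nat.card N = 1 := by rw [← map_pow, pow_card_eq_one', map_one]
  have h5 := pow_gcd_eq_one.2 ⟨h3, h4⟩
  rwa [hcop.gcd_eq_one, pow_one] at h5

/-- Over a character nontrivial on `N`, contained in the derived group of a normal `q`-group, all
degrees are divisible by `q`. -/
theorem dvd_degree_of_derived [Fintype G] {q : ℕ} [hq : Fact q.Prime] (Q : Subgroup G) [Q.Normal]
    (hQ : IsPGroup q Q) (N : Subgroup G) [N.Normal] [Fintype N] (hND : N ≤ ⁅Q, Q⁆) (f : N →* ℂˣ)
    (hf : f ≠ 1) (χ : IrrCharacter G)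
    (h : classInner (fun n : N => (χ : G → ℂ) n) (linIrr f : N → ℂ) ≠ 0) :
    q ∣ charDegree (χ : G → ℂ) := by
  classical
  by_contra hnd
  haveI := Fintype.ofFinite Q
  have hall : ∀ n ∈ N, (χ : G → ℂ) n = (χ : G → ℂ) 1 := by
    intro n hn
    refine eq_one_of_constituents Q χ (commutator_le_left Q Q (hND hn)) fun θ hθ => ?_
    have h1 := (Block.ItoMichler.dvd_of_constituent Q χ θ hθ).1
    obtain ⟨j, hj⟩ := IsPGroup.iff_card.1 hQ
    have h2 : charDegree (θ : Q → ℂ) ∣ q ^ j :=
      hj ▸ Char.degree_dvd_card θ (eq_natCast_degree θ)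
    obtain ⟨i, -, hi⟩ := (Nat.dvd_prime_pow hq.out).1 h2
    have hi0 : i = 0 := by
      by_contra hh
      exact hnd ((dvd_pow_self q hh).trans (hi ▸ h1))
    obtain ⟨g, rfl⟩ := exists_hom_of_degree_one θ (by
      rw [eq_natCast_degree θ, hi, hi0, pow_zero, Nat.cast_one])
    have hle : ⁅Q, Q⁆ ≤ g.ker.map Q.subtype := by
      rw [commutator_le]
      intro a ha b hb
      refine ⟨⁅(⟨a, ha⟩ : Q), (⟨b, hb⟩ : Q)⁆, ?_, rfl⟩
      rw [SetLike.mem_coe, MonoidHom.mem_ker, map_commutatorElement]
      exact commutatorElement_eq_one_iff_mul_comm.2 (mul_comm _ _)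
    obtain ⟨m, hm, hme⟩ := hle (hND hn)
    rw [linIrr_apply, linIrr_apply, map_one,
      show (⟨n, commutator_le_left Q Q (hND hn)⟩ : Q) = m from Subtype.ext hme.symm,
      MonoidHom.mem_ker.1 hm]
  exact h (by
    have e : (fun m : N => (χ : G → ℂ) m) = ((χ : G → ℂ) 1) • (linIrr (1 : N →* ℂˣ) : N → ℂ) :=
      funext fun m => by
        rw [hall m m.2, Pi.smul_apply, linIrr_apply]
        simp
    rw [e, Char.classInner_smul_left, Char.classInner_irr_ne (fun e' => hf (MonoidHom.ext fun m =>
      Units.ext (congrFun (congrArg Subtype.val e') m).symm)), mul_zero])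

end CfsgLib.DegComp.Palfy
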