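import Cfsg.Agent.Lib.DegComp.Palfy.LargePrime
import Cfsg.Agent.Lib.Block.ItoMichler
import Cfsg.Agent.Lib.Coprime.Component
import Cfsg.Agent.Lib.Char.Zsigmondy.Main
import Cfsg.Agent.Lib.GLClass.Irreducible
import Cfsg.Agent.Lib.PGroup.HallHighmanFrob
import Mathlib.LinearAlgebra.Matrix.GeneralLinearGroup.Card
import Mathlib.Algebra.Field.ZMod
import Mathlib.LinearAlgebra.FreeModule.Finite.CardQuotient
import Mathlib.FieldTheory.IsAlgClosed.AlgebraicClosure

/-!
# Every vector fixed by a unique Sylow subgroup, for two primes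

Let a solvable group `X` act faithfully and irreducibly on an elementary abelian `s`-group `V`, and
let `p ≠ r` divide `|X|` so that every nontrivial vector is fixed by a Sylow `p`-subgroup normalized
by the stabilizer, likewise for `r`.  Then some irreducible degree of `X` is divisible by `pr`.
-/

set_option autoImplicit false
set_option linter.style.haveILetI false
set_option linter.unusedSectionVars false

namespace CfsgLib.DegComp.Palfy

open CfsgLib.PGroup CfsgLib.Coprime
open Subgroup Cfsg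

universe u

variable {X : Type u} [Group X] [Finite X] {V : Type u} [CommGroup V] [Finite V]

/-- Every nontrivial vector is fixed by a Sylow subgroup normalized by its stabilizer. -/
def UniqueFix (φ : X →* MulAut V) (p : ℕ) : Prop :=
  ∀ v : V, v ≠ 1 → ∃ P : Sylow p X, (∀ x ∈ (P : Subgroup X), φ x v = v) ∧
    ∀ x : X, φ x v = v → x ∈ normalizer ((P : Subgroup X) : Set X)

/-- The fixed points of a set of automorphisms. -/
def fixedSub (φ : X →* MulAut V) (A : Subgroup X) : Subgroup V where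
  carrier := {v | ∀ x ∈ A, φ x v = v}
  one_mem' := fun x _ => map_one _
  mul_mem' := fun ha hb x hx => by rw [map_mul, ha x hx, hb x hx]
  inv_mem' := fun ha x hx => by rw [map_inv, ha x hx]

theorem mem_fixedSub {φ : X →* MulAut V} {A : Subgroup X} {v : V} :
    v ∈ fixedSub φ A ↔ ∀ x ∈ A, φ x v = v := Iff.rfl

theorem fixedSub_invariant (φ : X →* MulAut V) {A : Subgroup X} {g : X}
    (hg : g ∈ normalizer (A : Set X)) {v : V} (hv : v ∈ fixedSub φ A) : φ g v ∈ fixedSub φ A := by
  intro x hx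
  have h := hv _ ((mem_normalizer_iff''.1 hg x).1 hx)
  calc φ x (φ g v) = φ g (φ (g⁻¹ * x * g) v) := by
        rw [← MulAut.mul_apply, ← MulAut.mul_apply, ← map_mul, ← map_mul]; congr 2; group
    _ = φ g v := by rw [h]

theorem eq_of_le_normalizer {p : ℕ} [Fact p.Prime] (P Q : Sylow p X)
    (h : (Q : Subgroup X) ≤ normalizer ((P : Subgroup X) : Set X)) : Q = P := by
  have h1 := P.is_maximal' (P.2.to_sup_of_normal_left' Q.2 h) le_sup_left
  exact (Sylow.ext (Q.is_maximal' P.2 (le_sup_right.trans h1.le))).symm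

theorem UniqueFix.card_eq {φ : X →* MulAut V} {p : ℕ} [Fact p.Prime] (h : UniqueFix φ p)
    (P : Sylow p X) :
    Nat.card V - 1 = Nat.card (Sylow p X) * (Nat.card (fixedSub φ (P : Subgroup X)) - 1) := by
  classical
  let F : Sylow p X → Type u := fun Q => {v : V // v ≠ 1 ∧ v ∈ fixedSub φ (Q : Subgroup X)}
  let f : (Σ Q, F Q) → {v : V // v ≠ 1} := fun x => ⟨x.2.1, x.2.2.1⟩
  have hf : Function.Bijective f := by
    constructor
    · rintro ⟨Q, v, hv, hQ⟩ ⟨Q', v', hv', hQ'⟩ e
      obtain rfl : v = v' := congrArg Subtype.val e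
      obtain ⟨P', hP', hN⟩ := h v hv
      obtain rfl := eq_of_le_normalizer P' Q fun x hx => hN x (hQ x hx)
      obtain rfl := eq_of_le_normalizer Q Q' fun x hx => hN x (hQ' x hx)
      rfl
    · rintro ⟨v, hv⟩
      obtain ⟨P', hP', -⟩ := h v hv
      exact ⟨⟨P', v, hv, hP'⟩, rfl⟩
  have hcard : ∀ Q : Sylow p X,
      Nat.card (F Q) = Nat.card (fixedSub φ (P : Subgroup X)) - 1 := by
    intro Q
    obtain ⟨g, rfl⟩ := MulAction.exists_smul_eq X P Q
    have e1 : Nat.card (F (g • P)) = ((fixedSub φ (g • P : Sylow p X) : Set V) \ {1}).ncard := by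
      rw [← Nat.card_coe_set_eq]
      exact Nat.card_congr (Equiv.subtypeEquivRight fun v => by simp [and_comm])
    rw [e1, Set.ncard_diff_singleton_of_mem (one_mem _), ← Nat.card_coe_set_eq]
    congr 1
    refine Nat.card_congr ((φ g).toEquiv.subtypeEquiv fun v => ?_).symm
    have hmem : ∀ x, x ∈ ((g • P : Sylow p X) : Subgroup X) ↔ g⁻¹ * x * g ∈ (P : Subgroup X) := by
      intro x
      rw [Sylow.coe_subgroup_smul, mem_pointwise_smul_iff_inv_smul_mem]
      simp [MulAut.smul_def]
    show v ∈ fixedSub φ (P : Subgroup X) ↔ φ g v ∈ fixedSub φ ((g • P : Sylow p X) : Subgroup X)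
    refine ⟨fun hv x hx => ?_, fun hv x hx => ?_⟩
    · calc φ x (φ g v) = φ g (φ (g⁻¹ * x * g) v) := by
            rw [← MulAut.mul_apply, ← MulAut.mul_apply, ← map_mul, ← map_mul]; congr 2; group
        _ = φ g v := by rw [hv _ ((hmem x).1 hx)]
    · refine (φ g).injective ?_
      calc φ g (φ x v) = φ (g * x * g⁻¹) (φ g v) := by
            rw [← MulAut.mul_apply, ← MulAut.mul_apply, ← map_mul, ← map_mul]; congr 2; group
        _ = φ g v := hv _ ((hmem _).2 (by simpa [mul_assoc] using hx))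
  haveI := Fintype.ofFinite (Sylow p X)
  have h1 : Nat.card V - 1 = Nat.card {v : V // v ≠ 1} := by
    rw [← Set.ncard_univ, ← Set.ncard_diff_singleton_of_mem (Set.mem_univ (1 : V)),
      ← Nat.card_coe_set_eq]
    exact Nat.card_congr (Equiv.subtypeEquivRight fun v => by simp)
  rw [h1, ← Nat.card_eq_of_bijective f hf, Nat.card_sigma,
    Finset.sum_congr rfl fun Q _ => hcard Q, Finset.sum_const, Finset.card_univ,
    Nat.card_eq_fintype_card (α := Sylow p X), smul_eq_mul]

/-- Congruence of an invariant subgroup and its fixed points under a `p`-subgroup. -/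
theorem card_fixed_modEq (φ : X →* MulAut V) {p : ℕ} [Fact p.Prime] (P : Subgroup X)
    (hP : IsPGroup p P) (U : Subgroup V) (hU : ∀ x ∈ P, ∀ v ∈ U, φ x v ∈ U) :
    Nat.card U ≡ Nat.card (U ⊓ fixedSub φ P : Subgroup V) [MOD p] := by
  letI : MulAction P U :=
    { smul := fun x v => ⟨φ (x : X) v, hU x x.2 v v.2⟩
      one_smul := fun v => Subtype.ext (by
        show φ ((1 : P) : X) v = v
        simp)
      mul_smul := fun x y v => Subtype.ext (by
        show φ ((x * y : P) : X) v = φ (x : X) (φ (y : X) v)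
        simp) }
  have h := hP.card_modEq_card_fixedPoints U
  rwa [Nat.card_congr
      ({ toFun := fun v => ⟨v.1.1, v.1.2, fun x hx => congrArg Subtype.val (v.2 ⟨x, hx⟩)⟩
         invFun := fun v => ⟨⟨v.1, v.2.1⟩, fun x => Subtype.ext (v.2.2 x x.2)⟩
         left_inv := fun v => rfl
         right_inv := fun v => rfl } :
        MulAction.fixedPoints P U ≃ ↥(U ⊓ fixedSub φ P))] at h

/-- The setting: a faithful irreducible action on an elementary abelian `s`-group of rank `n`. -/
structure Setting (φ : X →* MulAut V) (s n : ℕ) : Prop where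
  inj : Function.Injective φ
  prime : s.Prime
  exp : ∀ v : V, v ^ s = 1
  card : Nat.card V = s ^ n
  irr : ∀ U : Subgroup V, (∀ g, ∀ v ∈ U, φ g v ∈ U) → U = ⊥ ∨ U = ⊤

variable {φ : X →* MulAut V} {s n : ℕ}

theorem Setting.isPGroup (h : Setting φ s n) : IsPGroup s V :=
  IsPGroup.of_card h.card

theorem Setting.card_fixed (h : Setting φ s n) (A : Subgroup X) :
    ∃ a ≤ n, Nat.card (fixedSub φ A) = s ^ a := by
  have := card_subgroup_dvd_card (fixedSub φ A)
  rw [h.card] at this
  exact (Nat.dvd_prime_pow h.prime).1 this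

theorem Setting.trivial_of_fixed (h : Setting φ s n) {A : Subgroup X}
    (hA : fixedSub φ A = ⊤) : A = ⊥ :=
  (eq_bot_iff_forall _).2 fun x hx => h.inj (MulEquiv.ext fun v => by
    rw [map_one, MulAut.one_apply]
    exact (hA ▸ mem_top v : v ∈ fixedSub φ A) x hx)

theorem Setting.pCore_self (h : Setting φ s n) (hn : n ≠ 0) : Cfsg.pCore s X = ⊥ := by
  haveI := Fact.mk h.prime
  haveI := pCore_normal' (G := X) s
  refine h.trivial_of_fixed ((h.irr _ fun g v hv => fixedSub_invariant φ
    (by rw [normalizer_eq_top]; exact mem_top g) hv).resolve_left fun hb => ?_)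
  have h1 := card_fixed_modEq φ _ (pCore_isPGroup (G := X) s) ⊤ fun _ _ _ _ => mem_top _
  rw [top_inf_eq, hb, card_bot, card_top, h.card] at h1
  have : s ∣ 1 := (Nat.ModEq.dvd_iff h1 dvd_rfl).1 (dvd_pow_self s hn)
  exact h.prime.not_dvd_one this

theorem UniqueFix.pCore_eq_bot (h : Setting φ s n) {p : ℕ} [Fact p.Prime] (hp : UniqueFix φ p) :
    Cfsg.pCore p X = ⊥ := by
  refine h.trivial_of_fixed (eq_top_iff.2 fun v _ x hx => ?_)
  by_cases hv : v = 1
  · rw [hv, map_one]
  obtain ⟨P, hP, -⟩ := hp v hv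
  exact hP x (pCore_le_sylow P hx)

/-- The numerical consequence of unique fixing. -/
theorem UniqueFix.numeric (h : Setting φ s n) (hn : n ≠ 0) {p : ℕ} [hp' : Fact p.Prime]
    (hp : UniqueFix φ p) (hdvd : p ∣ Nat.card X) :
    ∃ a, 1 ≤ a ∧ a < n ∧ Nat.card (Sylow p X) * (s ^ a - 1) = s ^ n - 1 ∧
      Nat.card (Sylow p X) % p = 1 := by
  obtain ⟨P⟩ : Nonempty (Sylow p X) := inferInstance
  obtain ⟨a, ha, hca⟩ := h.card_fixed (P : Subgroup X)
  have he := hp.card_eq P
  rw [h.card, hca] at he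
  refine ⟨a, ?_, lt_of_le_of_ne ha ?_, he.symm, ?_⟩
  · by_contra hc
    obtain rfl : a = 0 := by omega
    rw [pow_zero, Nat.sub_self, mul_zero] at he
    have := Nat.one_lt_pow hn h.prime.one_lt
    omega
  · rintro rfl
    refine P.ne_bot_of_dvd_card hdvd (h.trivial_of_fixed (eq_top_of_card_eq _ ?_))
    rw [hca, h.card]
  · exact Eq.trans (card_sylow_modEq_one p X) (Nat.one_mod_eq_one.2 hp'.out.ne_one)

/-- The contragredient representation over an algebraic closure. -/
theorem Setting.exists_rep (h : Setting φ s n) [Fact s.Prime] :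
    ∃ ρ : X →* Module.End (AlgebraicClosure (ZMod s)) (Additive V →+ AlgebraicClosure (ZMod s)),
      Function.Injective ρ ∧
        FiniteDimensional (AlgebraicClosure (ZMod s)) (Additive V →+ AlgebraicClosure (ZMod s)) ∧
        Module.finrank (AlgebraicClosure (ZMod s)) (Additive V →+ AlgebraicClosure (ZMod s)) = n := by
  let ρ : X →* Module.End (AlgebraicClosure (ZMod s)) (Additive V →+ AlgebraicClosure (ZMod s)) :=
    { toFun := fun x => dAct φ x
      map_one' := LinearMap.ext fun f => dAct_one φ f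
      map_mul' := fun x y => LinearMap.ext fun f => dAct_mul φ x y f }
  obtain ⟨hfd, hc⟩ := CfsgLib.PGroup.finrank_addHom h.exp (AlgebraicClosure (ZMod s))
  refine ⟨ρ, (injective_iff_map_eq_one _).2 fun x hx => inv_eq_one.1 (h.inj ?_), hfd,
    Nat.pow_right_injective h.prime.two_le (hc.symm.trans h.card)⟩
  rw [map_one]
  refine MulEquiv.ext fun v => ?_
  haveI hM : Module (ZMod s) (Additive V) := AddCommGroup.zmodModule fun w => h.exp w.toMul
  have key : Additive.ofMul (φ x⁻¹ v) - Additive.ofMul v = 0 := by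
    refine (Module.forall_dual_apply_eq_zero_iff (ZMod s) (Additive.ofMul (φ x⁻¹ v) - Additive.ofMul v)).1 fun f => ?_
    have h1 := DFunLike.congr_fun (LinearMap.congr_fun hx
      ((algebraMap (ZMod s) (AlgebraicClosure (ZMod s))).toAddMonoidHom.comp f.toAddMonoidHom))
      (Additive.ofMul v)
    rw [map_sub, sub_eq_zero]
    exact (algebraMap (ZMod s) (AlgebraicClosure (ZMod s))).injective h1
  rw [MulAut.one_apply]
  exact Additive.ofMul.injective (sub_eq_zero.1 key)

/-- An element of prime order above the dimension centralizes each `O_c`, apart from the exception. -/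
theorem Setting.commute_pCore_or (h : Setting φ s n) (hn : n ≠ 0) {q c e : ℕ} (hq : q.Prime)
    (hc : c.Prime) (hcq : c ≠ q) (hnq : n < q) {g : X} (hg : g ^ q ^ (e + 1) = 1) :
    (∀ z ∈ Cfsg.pCore c X, Commute (g ^ q ^ e) z) ∨
      ∃ b, 1 ≤ b ∧ n = 2 ^ b ∧ q = 2 ^ b + 1 ∧ q ^ (e + 1) ∣ 2 ^ (2 * b) - 1 ∧ s ≠ 2 := by
  haveI := Fact.mk h.prime
  haveI := Fact.mk hc
  by_cases hcs : c = s
  · left
    intro z hz
    subst hcs
    rw [h.pCore_self hn, mem_bot] at hz
    rw [hz]; exact Commute.one_right _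
  by_contra hh
  push Not at hh
  obtain ⟨⟨z, hz, hzc⟩, hh⟩ := hh
  obtain ⟨ρ, hρ, hfd, hfr⟩ := h.exists_rep
  haveI := hfd
  haveI := pCore_normal' (G := X) c
  obtain ⟨b, hc2, hb, hnb, hqb, hd⟩ := large_prime ρ hρ (c := c) (e := e) hq
    (fun h0 => hcs ((Nat.prime_dvd_prime_iff_eq h.prime hc).1
      ((CharP.cast_eq_zero_iff (AlgebraicClosure (ZMod s)) s c).1 h0)).symm)
    hcq (hfr ▸ hnq) hg (Cfsg.pCore c X) (pCore_isPGroup c)
    (by rw [normalizer_eq_top]; exact mem_top g) ⟨z, hz, hzc⟩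
  exact hcs (hc2.trans (hh b hb (hfr ▸ hnb) hqb hd).symm)

/-- An element of prime order `q` above the dimension forces `O_q ≠ 1`, apart from the exception. -/
theorem Setting.pCore_ne_bot_or [Group.IsSolvable X] (h : Setting φ s n) (hn : n ≠ 0) {q e : ℕ}
    (hq : q.Prime) (hnq : n < q) {g : X} (hg : g ^ q ^ (e + 1) = 1) (hg' : g ^ q ^ e ≠ 1) :
    Cfsg.pCore q X ≠ ⊥ ∨
      ∃ b, 1 ≤ b ∧ n = 2 ^ b ∧ q = 2 ^ b + 1 ∧ q ^ (e + 1) ∣ 2 ^ (2 * b) - 1 ∧ s ≠ 2 := by
  haveI := Fact.mk hq
  refine or_iff_not_imp_left.2 fun hbot => by_contra fun hno => hg' ?_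
  rw [not_ne_iff] at hbot
  set a := g ^ q ^ e
  have hFc : Cfsg.fittingSubgroup X ≤ centralizer {a} := by
    rw [fitting_eq_iSup_pCore]
    refine iSup_le fun c z hz => mem_centralizer_singleton_iff.2 ?_
    by_cases hcq : (c : ℕ) = q
    · rw [hcq, hbot, mem_bot] at hz
      simp [hz]
    · exact ((h.commute_pCore_or hn hq c.2 hcq hnq hg).resolve_right hno z hz).eq.symm
  have haF : a ∈ Cfsg.fittingSubgroup X := centralizer_fitting_le
    (mem_centralizer_iff.2 fun z hz => mem_centralizer_singleton_iff.1 (hFc hz))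
  set F := Cfsg.fittingSubgroup X
  haveI hFn : F.Normal := fitting_normal
  haveI : Group.IsNilpotent F := fitting_isNilpotent
  have haq : a ^ q = 1 := by rw [← pow_mul, ← pow_succ, hg]
  have hza : IsPGroup q (zpowers (⟨a, haF⟩ : F)) := by
    refine IsPGroup.of_card (n := 1) ?_
    rw [Nat.card_zpowers, pow_one]
    exact orderOf_eq_prime (Subtype.ext haq) fun e' => hg' (congrArg Subtype.val e')
  obtain ⟨S, hS⟩ := hza.exists_le_sylow
  haveI hSn : (S : Subgroup F).Normal := inferInstance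
  haveI := S.characteristic_of_normal hSn
  have hle : (S : Subgroup F).map F.subtype ≤ Cfsg.pCore q X := le_pCore (S.2.map _)
  rw [hbot] at hle
  exact mem_bot.1 (hle ⟨_, hS (mem_zpowers _), rfl⟩)

theorem orderOf_natCast_of_prim {l : ℕ} [Fact l.Prime] (hs : 1 ≤ s) (hn : 1 ≤ n)
    (h : CfsgLib.Char.Zsigmondy.Prim s n l) : orderOf (s : ZMod l) = n := by
  refine (orderOf_eq_iff hn).2 ⟨(CfsgLib.Char.Zsigmondy.dvd_pow_sub_one_iff hs).1 h.2.1, ?_⟩
  intro i hin hi he
  exact h.2.2 i hi hin ((CfsgLib.Char.Zsigmondy.dvd_pow_sub_one_iff hs).2 he)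

theorem lt_of_orderOf_natCast {l : ℕ} [hl : Fact l.Prime] (hn : n ≠ 0)
    (h : orderOf (s : ZMod l) = n) : n < l := by
  have hne : (s : ZMod l) ≠ 0 := by
    intro h0
    rw [h0] at h
    exact hn (h.symm.trans (orderOf_eq_zero_iff'.2 fun i hi => by rw [zero_pow hi.ne']; exact zero_ne_one))
  have h1 := ZMod.orderOf_dvd_card_sub_one hne
  rw [h] at h1
  have := hl.out.two_le
  have := Nat.le_of_dvd (by omega) h1
  omega

theorem Setting.exists_toGL (h : Setting φ s n) [Fact s.Prime] :
    ∃ f : X →* GL (Fin n) (ZMod s), Function.Injective f := by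
  haveI hM : Module (ZMod s) (Additive V) := AddCommGroup.zmodModule fun w => h.exp w.toMul
  haveI : Finite (Additive V) := ‹Finite V›
  haveI : Module.Finite (ZMod s) (Additive V) := Module.Finite.of_finite
  have hd : Module.finrank (ZMod s) (Additive V) = n := by
    haveI : Module.Finite (ZMod s) (Additive V) := Module.Finite.of_finite
    have h1 := Module.natCard_eq_pow_finrank (K := ZMod s) (V := Additive V)
    rw [Nat.card_zmod, ← Nat.card_congr (Additive.ofMul (α := V)), h.card] at h1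
    exact (Nat.pow_right_injective h.prime.two_le h1).symm
  let L : Additive V ≃ₗ[ZMod s] (Fin n → ZMod s) :=
    LinearEquiv.ofFinrankEq _ _ (by rw [hd, Module.finrank_fin_fun])
  let ext : MulAut V →* Module.End (ZMod s) (Additive V) :=
    { toFun := fun a => AddMonoidHom.toZModLinearMap s (MonoidHom.toAdditive a.toMonoidHom)
      map_one' := LinearMap.ext fun w => rfl
      map_mul' := fun a b => LinearMap.ext fun w => rfl }
  let toM : MulAut V →* GL (Fin n) (ZMod s) :=
    ((LinearMap.toMatrixAlgEquiv'.toMonoidHom).comp ((L.conjRingEquiv.toMonoidHom).comp ext)).toHomUnits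
  refine ⟨toM.comp φ, fun x y hxy => h.inj (MulEquiv.ext fun v => ?_)⟩
  have h1 : ext (φ x) = ext (φ y) :=
    L.conjRingEquiv.injective (LinearMap.toMatrixAlgEquiv'.injective (congrArg Units.val hxy))
  exact LinearMap.congr_fun h1 (Additive.ofMul v)

/-- An element whose order is a primitive prime divisor has cyclic centralizer. -/
theorem Setting.isCyclic_centralizer (h : Setting φ s n) (hn : 1 ≤ n) {l : ℕ} [hl : Fact l.Prime]
    (hord : orderOf (s : ZMod l) = n) {x : X} (hx : orderOf x = l) :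
    IsCyclic (centralizer ({x} : Set X)) := by
  haveI := Fact.mk h.prime
  obtain ⟨f, hf⟩ := h.exists_toGL
  have hls : l ≠ s := by
    rintro rfl
    rw [ZMod.natCast_self, orderOf_eq_zero_iff'.2 fun i hi => by rw [zero_pow hi.ne']; exact zero_ne_one]
      at hord
    omega
  have hcard : Fintype.card (ZMod s) = s := ZMod.card s
  have hirr := CfsgLib.GLClass.irreducible_charpoly_of_primitive (p := s) hl.out hls
    (by rw [hcard]; exact hord) (f x) (by rw [orderOf_injective f hf, hx])
  haveI := (CfsgLib.GLClass.centralizer_of_irreducible hn (f x) hirr).1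
  let g : centralizer ({x} : Set X) →* centralizer ({f x} : Set (GL (Fin n) (ZMod s))) :=
    (f.comp (centralizer ({x} : Set X)).subtype).codRestrict _ fun y => by
      rw [mem_centralizer_singleton_iff]
      show f (y : X) * f x = f x * f (y : X)
      rw [← map_mul, ← map_mul, mem_centralizer_singleton_iff.1 y.2]
  exact isCyclic_of_injective g fun a b hab => Subtype.ext (hf (congrArg Subtype.val hab))

/-- A normal subgroup of index prime to `p` contains the Sylow `p`-subgroups. -/
theorem sylow_le_of_not_dvd_index {p : ℕ} [hp : Fact p.Prime] (T : Subgroup X) [T.Normal]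
    (h : ¬ p ∣ T.index) (P : Sylow p X) : (P : Subgroup X) ≤ T := by
  intro x hx
  obtain ⟨k, hk⟩ := P.2 ⟨x, hx⟩
  have h1 : orderOf (x : X ⧸ T) ∣ p ^ k :=
    orderOf_dvd_of_pow_eq_one (by rw [← QuotientGroup.mk_pow, show x ^ p ^ k = 1 from congrArg Subtype.val hk]; rfl)
  have h2 : orderOf (x : X ⧸ T) ∣ T.index := orderOf_dvd_natCard _
  have h3 := Nat.eq_one_of_dvd_coprimes ((hp.out.coprime_iff_not_dvd.2 h).pow_left k) h1 h2
  exact (QuotientGroup.eq_one_iff x).1 (orderOf_eq_one_iff.1 h3)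

/-- A nontrivial `O_l` at a primitive prime `l` gives a degree divisible by both primes. -/
theorem Setting.degree_of_pCore (h : Setting φ s n) (hn : 1 ≤ n) {l : ℕ} [hl : Fact l.Prime]
    (hord : orderOf (s : ZMod l) = n) (hne : Cfsg.pCore l X ≠ ⊥) {p r : ℕ} [hp : Fact p.Prime]
    [hr : Fact r.Prime] (hpr : p ≠ r) (hpd : p ∣ Nat.card X) (hrd : r ∣ Nat.card X)
    (hp' : Cfsg.pCore p X = ⊥) (hr' : Cfsg.pCore r X = ⊥) :
    ∃ χ : IrrCharacter X, p * r ∣ charDegree (χ : X → ℂ) := by
  classical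
  haveI := Fintype.ofFinite X
  set O := Cfsg.pCore l X
  haveI : O.Normal := pCore_normal' l
  haveI : Nontrivial O := (nontrivial_iff_ne_bot O).2 hne
  have hO : IsPGroup l O := pCore_isPGroup l
  haveI := hO.center_nontrivial
  set X0 : Subgroup X := (center O).map O.subtype with hX0
  haveI hX0n : X0.Normal := inferInstance
  have hX0c : IsPGroup l X0 := (hO.to_subgroup _).map _
  have hX0comm : ∀ a ∈ X0, ∀ b ∈ X0, a * b = b * a := by
    rintro _ ⟨a, ha, rfl⟩ _ ⟨b, -, rfl⟩
    exact congrArg Subtype.val (mem_center_iff.1 ha b).symm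
  have hX0ne : X0 ≠ ⊥ := by
    rw [hX0, Ne, map_eq_bot_iff_of_injective _ O.subtype_injective, ← Ne, ← nontrivial_iff_ne_bot]
    infer_instance
  haveI : Nontrivial X0 := (nontrivial_iff_ne_bot X0).2 hX0ne
  obtain ⟨j, hj0, hj⟩ := hX0c.nontrivial_iff_card.1 inferInstance
  obtain ⟨z', hz'⟩ := exists_prime_orderOf_dvd_card' (G := X0) l (hj ▸ dvd_pow_self l hj0.ne')
  set z : X := (z' : X) with hz
  have hzo : orderOf z = l := (orderOf_coe z').trans hz'
  haveI hcyc := h.isCyclic_centralizer hn hord hzo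
  set T := centralizer ({z} : Set X) with hT
  haveI hzn : (zpowers z).Normal := by
    refine ⟨fun w hw g => ?_⟩
    by_contra hnot
    haveI := Fintype.ofFinite T
    have hcl := IsCyclic.card_pow_eq_one_le (α := T) hl.out.pos
    have hwl : w ^ l = 1 := by
      obtain ⟨i, rfl⟩ := mem_zpowers_iff.1 hw
      rw [← zpow_natCast, ← zpow_mul, mul_comm, zpow_mul, zpow_natCast, ← hzo, pow_orderOf_eq_one,
        one_zpow]
    have hwX : g * w * g⁻¹ ∈ X0 := hX0n.conj_mem w ((zpowers_le.2 z'.2) hw) g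
    have hT0 : X0 ≤ T := fun y hy => mem_centralizer_singleton_iff.2 (hX0comm y hy z z'.2)
    have hzT : zpowers z ≤ T := (zpowers_le.2 z'.2).trans hT0
    let e : zpowers z ⊕ Unit → {y : T // y ^ l = 1} := Sum.elim
      (fun y => ⟨⟨y, hzT y.2⟩, Subtype.ext (by
        obtain ⟨i, hi⟩ := mem_zpowers_iff.1 y.2
        show (y : X) ^ l = 1
        rw [← hi, ← zpow_natCast, ← zpow_mul, mul_comm, zpow_mul, zpow_natCast, ← hzo,
          pow_orderOf_eq_one, one_zpow])⟩)
      (fun _ => ⟨⟨g * w * g⁻¹, hT0 hwX⟩, Subtype.ext (by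
        show (g * w * g⁻¹) ^ l = 1
        rw [conj_pow, hwl, mul_one, mul_inv_cancel])⟩)
    have he : Function.Injective e := by
      rintro (a | a) (b | b) hab
      · exact congrArg Sum.inl (Subtype.ext (congrArg (fun t => ((t.1 : T) : X)) hab))
      · exact absurd (Eq.subst (motive := fun t => t ∈ zpowers z) (show (a : X) = g * w * g⁻¹ from congrArg (fun t => ((t.1 : T) : X)) hab) a.2) hnot
      · exact absurd (Eq.subst (motive := fun t => t ∈ zpowers z) (show g * w * g⁻¹ = (b : X) from congrArg (fun t => ((t.1 : T) : X)) hab).symm b.2) hnot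
      · rfl
    have h1 := Nat.card_le_card_of_injective e he
    rw [Nat.card_sum, Nat.card_zpowers, hzo, Nat.card_unique, Nat.card_eq_fintype_card,
      Fintype.card_subtype] at h1
    omega
  haveI hTn : T.Normal := by
    refine ⟨fun y hy g => ?_⟩
    obtain ⟨i, hi⟩ := mem_zpowers_iff.1 (hzn.conj_mem z (mem_zpowers z) g⁻¹)
    rw [inv_inv] at hi
    rw [mem_centralizer_singleton_iff] at hy ⊢
    have hc : Commute y (g⁻¹ * z * g) := hi ▸ (show Commute y z from hy).zpow_right i
    calc g * y * g⁻¹ * z = g * (y * (g⁻¹ * z * g)) * g⁻¹ := by group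
      _ = g * ((g⁻¹ * z * g) * y) * g⁻¹ := by rw [hc.eq]
      _ = z * (g * y * g⁻¹) := by group
  have hTidx : ∀ q : ℕ, Fact q.Prime → q ∣ Nat.card X → Cfsg.pCore q X = ⊥ → q ∣ T.index := by
    intro q hq hqd hqb
    by_contra hnd
    obtain ⟨Q⟩ : Nonempty (Sylow q X) := inferInstance
    have hQT := sylow_le_of_not_dvd_index T hnd
    have hQn : (Q : Subgroup X).Normal := by
      refine ⟨fun y hy g => ?_⟩
      have h2 : ((g • Q : Sylow q X) : Subgroup X) ≤ normalizer ((Q : Subgroup X) : Set X) := by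
        intro t ht
        refine centralizer_le_normalizer _ (mem_centralizer_iff.2 fun y' hy' => ?_)
        exact congrArg Subtype.val (IsCyclic.commGroup.mul_comm
          (⟨y', hQT Q hy'⟩ : T) ⟨t, hQT (g • Q) ht⟩)
      have h3 := eq_of_le_normalizer Q (g • Q) h2
      have h4 : g * y * g⁻¹ ∈ ((g • Q : Sylow q X) : Subgroup X) := by
        rw [Sylow.coe_subgroup_smul, mem_pointwise_smul_iff_inv_smul_mem]
        simpa [MulAut.smul_def, mul_assoc] using hy
      rwa [h3] at h4
    have hle : (Q : Subgroup X) ≤ Cfsg.pCore q X := le_pCore Q.2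
    exact Q.ne_bot_of_dvd_card hqd (le_bot_iff.1 (hqb ▸ hle))
  -- a nontrivial linear character of `⟨z⟩`
  haveI := Fintype.ofFinite (zpowers z)
  letI : CommGroup (zpowers z) := IsCyclic.commGroup
  obtain ⟨f, hf⟩ := CommGroup.exists_apply_ne_one_of_hasEnoughRootsOfUnity (zpowers z) ℂ
    (show (⟨z, mem_zpowers z⟩ : zpowers z) ≠ 1 from fun e => by
      have h1 : z = 1 := congrArg Subtype.val e
      rw [h1, orderOf_one] at hzo
      exact hl.out.ne_one hzo.symm)
  have hinjf : Function.Injective f := by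
    refine (injective_iff_map_eq_one f).2 fun w hw => by_contra fun hw1 => hf ?_
    have hc : Nat.card (zpowers z) = l := by rw [Nat.card_zpowers, hzo]
    obtain ⟨i, hi⟩ := mem_zpowers_iff.1 (mem_zpowers_of_prime_card hc hw1 (g' := ⟨z, mem_zpowers z⟩))
    rw [← hi, map_zpow, hw, one_zpow]
  set lam : zpowers z → ℂ := fun w => (f w : ℂ)
  have hlam : IsIrrCharacter (zpowers z) lam := Char.isIrrCharacter_lin f
  have hle : Char.inertia (zpowers z) lam ≤ T := by
    intro g hg
    have h1 := congrFun ((Char.mem_inertia _ _ g).1 hg) ⟨z, mem_zpowers z⟩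
    have h2 := congrArg Subtype.val (hinjf (Units.ext h1))
    rw [mem_centralizer_singleton_iff]
    exact mul_inv_eq_iff_eq_mul.1 h2
  obtain ⟨χ, hχ⟩ := Block.ItoMichler.exists_irr_over (zpowers z) ⟨lam, hlam⟩
  refine ⟨χ, dvd_trans ?_ ((index_dvd_of_le hle).trans
    (Block.ItoMichler.dvd_of_constituent (zpowers z) χ ⟨lam, hlam⟩ hχ).2)⟩
  exact ((Nat.coprime_primes hp.out hr.out).2 hpr).mul_dvd_of_dvd_of_dvd (hTidx p hp hpd hp')
    (hTidx r hr hrd hr')

end CfsgLib.DegComp.Palfy
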