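import Cfsg.Agent.Lib.DegComp.Palfy.UniqueSylow

/-!
# The degree divisible by both primes

The case analysis over the rank `n`: a primitive prime divisor of `s ^ n - 1` gives a cyclic
irreducible normal subgroup, or `n = 2 ^ b` with all these primes equal to `n + 1`, which leaves
`(s, n) = (3, 4)`; the pair `(2, 6)` is checked directly.
-/

set_option autoImplicit false
set_option linter.style.haveILetI false
set_option linter.unusedSectionVars false

namespace CfsgLib.DegComp.Palfy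

open CfsgLib.Coprime
open Subgroup Cfsg

universe u

variable {X : Type u} [Group X] [Finite X] [Group.IsSolvable X] {V : Type u} [CommGroup V] [Finite V]
  {φ : X →* MulAut V} {s n : ℕ}

/-- A prime divisor of `|X|` other than the exceptional one, above the dimension, is impossible when
its core is trivial. -/
theorem Setting.shape_of_dvd (h : Setting φ s n) (hn : n ≠ 0) {q : ℕ} [hq : Fact q.Prime]
    (hnq : n < q) (hqd : q ∣ Nat.card X) (hcore : Cfsg.pCore q X = ⊥) :
    ∃ b, 1 ≤ b ∧ n = 2 ^ b ∧ q = 2 ^ b + 1 ∧ s ≠ 2 := by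
  obtain ⟨g, hg⟩ := exists_prime_orderOf_dvd_card' q hqd
  have h1 : g ^ q ^ (0 + 1) = 1 := by
    rw [zero_add, pow_one, ← hg, pow_orderOf_eq_one]
  have h2 : g ^ q ^ 0 ≠ 1 := by
    rw [pow_zero, pow_one]
    intro e
    rw [e, orderOf_one] at hg
    exact hq.out.ne_one hg.symm
  obtain ⟨b, hb, hn', hq', -, hs⟩ := (h.pCore_ne_bot_or hn hq.out hnq h1 h2).resolve_left
    (not_not.2 hcore)
  exact ⟨b, hb, hn', hq', hs⟩

/-- Sylow counts divide the order. -/
theorem card_sylow_dvd (p : ℕ) [Fact p.Prime] : Nat.card (Sylow p X) ∣ Nat.card X := by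
  obtain ⟨P⟩ : Nonempty (Sylow p X) := inferInstance
  exact P.card_dvd_index.trans (index_dvd_card _)

/-- At a primitive prime divisor: the degree, or the exceptional shape. -/
theorem Setting.degree_or_shape (h : Setting φ s n) (hn : 1 ≤ n) {l : ℕ} [hl : Fact l.Prime]
    (hord : orderOf (s : ZMod l) = n) (hld : l ∣ Nat.card X) {p r : ℕ} [Fact p.Prime]
    [Fact r.Prime] (hpr : p ≠ r) (hpd : p ∣ Nat.card X) (hrd : r ∣ Nat.card X)
    (hp : UniqueFix φ p) (hr : UniqueFix φ r) :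
    (∃ χ : IrrCharacter X, p * r ∣ charDegree (χ : X → ℂ)) ∨
      ∃ b, 1 ≤ b ∧ n = 2 ^ b ∧ l = 2 ^ b + 1 ∧ s ≠ 2 ∧ ¬ l ^ 2 ∣ Nat.card X := by
  by_cases hne : Cfsg.pCore l X = ⊥
  swap
  · exact Or.inl (h.degree_of_pCore hn hord hne hpr hpd hrd (hp.pCore_eq_bot h) (hr.pCore_eq_bot h))
  have hnl : n < l := lt_of_orderOf_natCast (by omega) hord
  obtain ⟨b, hb, hnb, hlb, hs2⟩ := h.shape_of_dvd (by omega) hnl hld hne
  refine Or.inr ⟨b, hb, hnb, hlb, hs2, fun h2 => ?_⟩
  obtain ⟨S⟩ : Nonempty (Sylow l X) := inferInstance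
  haveI : Nontrivial (S : Subgroup X) := (nontrivial_iff_ne_bot _).2 (S.ne_bot_of_dvd_card hld)
  haveI := S.2.center_nontrivial
  obtain ⟨k, hk0, hk⟩ := (S.2.to_subgroup (center (S : Subgroup X))).nontrivial_iff_card.1 inferInstance
  obtain ⟨z, hz⟩ := exists_prime_orderOf_dvd_card' (G := center (S : Subgroup X)) l
    (hk ▸ dvd_pow_self l hk0.ne')
  have hzo : orderOf ((z : (S : Subgroup X)) : X) = l := by
    rw [orderOf_coe, orderOf_coe, hz]
  haveI := h.isCyclic_centralizer hn hord hzo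
  have hle : (S : Subgroup X) ≤ centralizer {((z : (S : Subgroup X)) : X)} := fun y hy =>
    mem_centralizer_singleton_iff.2 (congrArg Subtype.val (mem_center_iff.1 z.2 ⟨y, hy⟩))
  haveI : IsCyclic (S : Subgroup X) :=
    isCyclic_of_injective (inclusion hle) (inclusion_injective hle)
  obtain ⟨y, hy⟩ := IsCyclic.exists_ofOrder_eq_natCard (α := (S : Subgroup X))
  obtain ⟨j, hj⟩ := IsPGroup.iff_card.1 S.2
  have hj2 : 2 ≤ j := by
    have := S.pow_dvd_card_of_pow_dvd_card (n := 2) h2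
    rw [hj] at this
    exact (Nat.pow_dvd_pow_iff_le_right hl.out.one_lt).1 this
  set g : X := ((y : X)) ^ l ^ (j - 2) with hg
  have hgo : orderOf g = l ^ 2 := by
    have hyo : orderOf (y : X) = l ^ j := by rw [orderOf_coe, hy, hj]
    rw [hg, orderOf_pow' _ (pow_pos hl.out.pos _).ne', hyo,
      Nat.gcd_eq_right (pow_dvd_pow l (Nat.sub_le j 2)), Nat.pow_div (Nat.sub_le j 2) hl.out.pos,
      Nat.sub_sub_self hj2]
  have h1 : g ^ l ^ (1 + 1) = 1 := by rw [← hgo, pow_orderOf_eq_one]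
  have h3 : g ^ l ^ 1 ≠ 1 := fun e => by
    have := orderOf_dvd_of_pow_eq_one e
    rw [hgo] at this
    exact absurd ((Nat.pow_dvd_pow_iff_le_right hl.out.one_lt).1 this) (by norm_num)
  obtain ⟨b', hb', hnb', hlb', hdvd, -⟩ :=
    (h.pCore_ne_bot_or (by omega) hl.out hnl h1 h3).resolve_left (not_not.2 hne)
  have e : 2 ^ (2 * b') - 1 = l * (2 ^ b' - 1) := by
    rw [hlb', mul_comm 2 b', pow_mul, ← Nat.sq_sub_sq, one_pow]
  rw [e, show l ^ (1 + 1) = l * l by ring, Nat.mul_dvd_mul_iff_left hl.out.pos] at hdvd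
  have h4 : 2 ≤ 2 ^ b' := Nat.le_self_pow (by omega) 2
  have := Nat.le_of_dvd (by omega) hdvd
  omega

theorem pow_gt_linear (k : ℕ) (hk : 3 ≤ k) : 4 * k + 3 ≤ 3 ^ k + 1 := by
  induction k, hk using Nat.le_induction with
  | base => norm_num
  | succ k hk ih => rw [pow_succ]; omega

/-- The rank six case over two elements. -/
theorem Setting.false_of_two_six (h : Setting φ 2 6) {p r : ℕ} [hp' : Fact p.Prime]
    [hr' : Fact r.Prime] (hpr : p ≠ r) (hpd : p ∣ Nat.card X) (hrd : r ∣ Nat.card X)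
    (hp : UniqueFix φ p) (hr : UniqueFix φ r) : False := by
  classical
  haveI := Fact.mk (show Nat.Prime 2 by norm_num)
  have big : ∀ q : ℕ, ∀ _ : Fact q.Prime, 6 < q → q ∣ Nat.card X → Cfsg.pCore q X ≠ ⊥ := by
    intro q hq hq6 hqd hcore
    obtain ⟨b, -, hn, -⟩ := h.shape_of_dvd (by norm_num) hq6 hqd hcore
    rcases b with - | - | - | b
    · norm_num at hn
    · norm_num at hn
    · norm_num at hn
    · rw [pow_succ, pow_succ, pow_succ] at hn
      omega
  have key : ∀ q : ℕ, ∀ _ : Fact q.Prime, q ∣ Nat.card X → UniqueFix φ q →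
      q = 2 ∨ (q = 5 ∧ 7 ∣ Nat.card X) := by
    intro q hq hqd hqu
    obtain ⟨a, ha1, ha6, hc, hm⟩ := hqu.numeric h (by norm_num) hqd
    have hqm : q ∣ Nat.card (Sylow q X) - 1 :=
      (Nat.modEq_iff_dvd' Nat.card_pos).1 (by
        rw [Nat.ModEq, Nat.one_mod_eq_one.2 hq.out.ne_one, hm])
    have hq6 : 6 < q → False := fun h6 => big q hq h6 hqd (hqu.pCore_eq_bot h)
    have hcases : Nat.card (Sylow q X) = 63 ∨ Nat.card (Sylow q X) = 21 ∨
        Nat.card (Sylow q X) = 9 := by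
      interval_cases a <;> omega
    have hq7 : q ≤ 6 := by
      by_contra hh
      exact hq6 (by omega)
    have hd := card_sylow_dvd (X := X) q
    have hqp := hq.out
    rcases hcases with e | e | e <;> rw [e] at hqm hd <;> interval_cases q <;>
      first
        | exact Or.inl rfl
        | (norm_num at hqp; done)
        | (norm_num at hqm; done)
        | exact Or.inr ⟨rfl, dvd_trans ⟨3, rfl⟩ hd⟩
  obtain ⟨h5, h7, h5u⟩ : 5 ∣ Nat.card X ∧ 7 ∣ Nat.card X ∧ UniqueFix φ 5 := by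
    rcases key p hp' hpd hp with e | ⟨e, e7⟩
    · rcases key r hr' hrd hr with e' | ⟨e', e7⟩
      · exact absurd (e.trans e'.symm) hpr
      · subst e'; exact ⟨hrd, e7, hr⟩
    · subst e; exact ⟨hpd, e7, hp⟩
  haveI h5f := Fact.mk (show Nat.Prime 5 by norm_num)
  haveI h7f := Fact.mk (show Nat.Prime 7 by norm_num)
  haveI := Fintype.ofFinite X
  set O := Cfsg.pCore 7 X
  haveI : O.Normal := pCore_normal' 7
  haveI : Nontrivial O := (nontrivial_iff_ne_bot O).2 (big 7 h7f (by norm_num) h7)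
  have hO : IsPGroup 7 O := pCore_isPGroup 7
  haveI := hO.center_nontrivial
  set X0 : Subgroup X := (center O).map O.subtype with hX0
  haveI hX0n : X0.Normal := inferInstance
  have hX0c : IsPGroup 7 X0 := (hO.to_subgroup _).map _
  haveI : Nontrivial X0 := by
    rw [nontrivial_iff_ne_bot, hX0, Ne, map_eq_bot_iff_of_injective _ O.subtype_injective, ← Ne,
      ← nontrivial_iff_ne_bot]
    infer_instance
  obtain ⟨j, hj0, hj⟩ := hX0c.nontrivial_iff_card.1 inferInstance
  have hj2 : j ≤ 2 := by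
    obtain ⟨f, hf⟩ := h.exists_toGL
    haveI : NeZero (2 : ℕ) := ⟨by norm_num⟩
    have h1 : 7 ^ j ∣ Nat.card (GL (Fin 6) (ZMod 2)) := by
      rw [← hj]
      exact (card_subgroup_dvd_card X0).trans (card_dvd_of_injective f hf)
    rw [Matrix.card_GL_field] at h1
    simp only [ZMod.card, Fin.prod_univ_six] at h1
    by_contra hh
    have h2 := (pow_dvd_pow 7 (show 3 ≤ j by omega)).trans h1
    norm_num at h2
  obtain ⟨y, hy⟩ := exists_prime_orderOf_dvd_card' (G := X) 5 h5
  obtain ⟨z', hz'⟩ := exists_prime_orderOf_dvd_card' (G := X0) 7 (hj ▸ dvd_pow_self 7 hj0.ne')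
  set z : X := (z' : X) with hz
  have hzo : orderOf z = 7 := (orderOf_coe z').trans hz'
  -- `y` fixes `z`
  have hyz : Commute y z := by
    have hY : IsPGroup 5 (zpowers y) := IsPGroup.of_card (n := 1) (by rw [Nat.card_zpowers, hy, pow_one])
    letI : MulAction (zpowers y) X0 :=
      MulAction.compHom X0 ((MulAut.conjNormal (H := X0)).comp (zpowers y).subtype)
    have h1 := hY.card_modEq_card_fixedPoints X0
    set Fp : Subgroup X := X0 ⊓ centralizer {y} with hFp
    have hcF : Nat.card (MulAction.fixedPoints (zpowers y) X0) = Nat.card Fp := by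
      refine Nat.card_congr
        { toFun := fun w => ⟨w.1.1, w.1.2, mem_centralizer_singleton_iff.2 ?_⟩
          invFun := fun w => ⟨⟨w.1, w.2.1⟩, fun t => Subtype.ext ?_⟩
          left_inv := fun w => rfl
          right_inv := fun w => rfl }
      · have h2 : y * (w.1.1 : X) * y⁻¹ = w.1.1 :=
          congrArg Subtype.val (w.2 ⟨y, mem_zpowers y⟩)
        exact (mul_inv_eq_iff_eq_mul.1 h2).symm
      · show (t : X) * (w : X) * (t : X)⁻¹ = (w : X)
        obtain ⟨i, hi⟩ := mem_zpowers_iff.1 t.2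
        have hc : Commute (y ^ i) (w : X) :=
          (show Commute y (w : X) from (mem_centralizer_singleton_iff.1 w.2.2).symm).zpow_left i
        rw [← hi, hc.eq, mul_inv_cancel_right]
    obtain ⟨i, hi⟩ := IsPGroup.iff_card.1 (hX0c.to_le (inf_le_left : Fp ≤ X0))
    have hle := Subgroup.card_dvd_of_le (inf_le_left : Fp ≤ X0)
    rw [hi, hj, Nat.pow_dvd_pow_iff_le_right (by norm_num)] at hle
    rw [hcF, hj, hi] at h1
    have hij : i = j := by
      interval_cases j <;> interval_cases i <;> first | rfl | exact absurd h1 (by decide)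
    have hFX : Fp = X0 := eq_of_le_of_card_ge inf_le_left (by rw [hi, hj, hij])
    exact (mem_centralizer_singleton_iff.1 (mem_inf.1 (hFX.symm ▸ z'.2 : z ∈ Fp)).2).symm
  -- counting fixed points
  set A := zpowers y
  set B := zpowers z
  have hA : IsPGroup 5 A := IsPGroup.of_card (n := 1) (by rw [Nat.card_zpowers, hy, pow_one])
  have hB : IsPGroup 7 B := IsPGroup.of_card (n := 1) (by rw [Nat.card_zpowers, hzo, pow_one])
  have hAB : ∀ a ∈ A, ∀ b ∈ B, a * b = b * a := by
    intro a ha b hb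
    obtain ⟨i, rfl⟩ := mem_zpowers_iff.1 ha
    obtain ⟨i', rfl⟩ := mem_zpowers_iff.1 hb
    exact (hyz.zpow_zpow i i').eq
  have hAn : ∀ b ∈ B, b ∈ normalizer (A : Set X) := fun b hb =>
    centralizer_le_normalizer _ (mem_centralizer_iff.2 fun a ha => hAB a ha b hb)
  have hBn : ∀ a ∈ A, a ∈ normalizer (B : Set X) := fun a ha =>
    centralizer_le_normalizer _ (mem_centralizer_iff.2 fun b hb => (hAB a ha b hb).symm)
  have hlt : ∀ C : Subgroup X, C ≠ ⊥ → ∃ i, i ≤ 5 ∧ Nat.card (fixedSub φ C) = 2 ^ i := by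
    intro C hC
    obtain ⟨i, hi, hc⟩ := h.card_fixed C
    refine ⟨i, ?_, hc⟩
    by_contra hh
    obtain rfl : i = 6 := by omega
    exact hC (h.trivial_of_fixed (eq_top_of_card_eq _ (hc.trans h.card.symm)))
  obtain ⟨i, hi5, hi⟩ := hlt A (zpowers_ne_bot.2 (fun e => by simp [e] at hy))
  obtain ⟨k, hk5, hk⟩ := hlt B (zpowers_ne_bot.2 (fun e => by simp [e] at hzo))
  have m1 := card_fixed_modEq φ A hA ⊤ fun _ _ _ _ => mem_top _
  rw [top_inf_eq, card_top, h.card, hi] at m1
  have m2 := card_fixed_modEq φ B hB (fixedSub φ A) fun b hb v hv =>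
    fixedSub_invariant φ (hAn b hb) hv
  have m3 := card_fixed_modEq φ A hA (fixedSub φ B) fun a ha v hv =>
    fixedSub_invariant φ (hBn a ha) hv
  have m4 := card_fixed_modEq φ B hB ⊤ fun _ _ _ _ => mem_top _
  rw [top_inf_eq, card_top, h.card, hk] at m4
  rw [hi] at m2
  rw [hk, inf_comm] at m3
  obtain ⟨c, hc6, hc⟩ : ∃ c, c ≤ i ∧ Nat.card (fixedSub φ A ⊓ fixedSub φ B : Subgroup V) = 2 ^ c := by
    have h1 := Subgroup.card_dvd_of_le (inf_le_left : fixedSub φ A ⊓ fixedSub φ B ≤ fixedSub φ A)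
    rw [hi] at h1
    exact (Nat.dvd_prime_pow Nat.prime_two).1 h1
  have hck : c ≤ k := by
    have h1 := Subgroup.card_dvd_of_le (inf_le_right : fixedSub φ A ⊓ fixedSub φ B ≤ fixedSub φ B)
    rw [hc, hk] at h1
    exact (Nat.pow_dvd_pow_iff_le_right (by norm_num)).1 h1
  rw [hc] at m2 m3
  unfold Nat.ModEq at m1 m2 m3 m4
  interval_cases i <;> norm_num at m1
  all_goals
    interval_cases c <;> norm_num at m2
    all_goals (interval_cases k <;> first | omega | (norm_num at m3; done) | (norm_num at m4; done))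

/-- **The linear three primes lemma.** -/
theorem Setting.exists_degree (h : Setting φ s n) {p r : ℕ} [hp' : Fact p.Prime]
    [hr' : Fact r.Prime] (hpr : p ≠ r) (hpd : p ∣ Nat.card X) (hrd : r ∣ Nat.card X)
    (hp : UniqueFix φ p) (hr : UniqueFix φ r) :
    ∃ χ : IrrCharacter X, p * r ∣ charDegree (χ : X → ℂ) := by
  classical
  haveI := Fact.mk h.prime
  have hn0 : n ≠ 0 := by
    rintro rfl
    have h1 : Nat.card V = 1 := by rw [h.card, pow_zero]
    haveI := (Nat.card_eq_one_iff_unique.1 h1).1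
    haveI : Subsingleton X :=
      ⟨fun a b => h.inj (MulEquiv.ext fun v => Subsingleton.elim _ _)⟩
    rw [Nat.card_unique] at hpd
    exact hp'.out.not_dvd_one hpd
  obtain ⟨a, ha1, han, hpc, hpm⟩ := hp.numeric h hn0 hpd
  obtain ⟨a', ha1', han', hrc, hrm⟩ := hr.numeric h hn0 hrd
  by_cases hn2 : n = 2
  · -- all such primes equal `s`
    have : ∀ q : ℕ, ∀ _ : Fact q.Prime, q ∣ Nat.card X → UniqueFix φ q → q = s := by
      intro q hq hqd hqu
      obtain ⟨b, hb1, hb2, hc, hm⟩ := hqu.numeric h hn0 hqd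
      obtain rfl : b = 1 := by omega
      subst hn2
      rw [pow_one, show s ^ 2 - 1 = (s + 1) * (s - 1) by rw [← Nat.sq_sub_sq, one_pow]] at hc
      have hs1 := h.prime.two_le
      have he := Nat.eq_of_mul_eq_mul_right (by omega) hc
      rw [he] at hm
      have hd : q ∣ s := by
        have h1 := (Nat.modEq_iff_dvd' (show 1 ≤ s + 1 by omega)).1
          (show 1 ≡ s + 1 [MOD q] by rw [Nat.ModEq, Nat.one_mod_eq_one.2 hq.out.ne_one, hm])
        simpa using h1
      exact (Nat.prime_dvd_prime_iff_eq hq.out h.prime).1 hd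
    exact absurd ((this p hp' hpd hp).trans (this r hr' hrd hr).symm) hpr
  by_cases h26 : s = 2 ∧ n = 6
  · obtain ⟨rfl, rfl⟩ := h26
    exact (h.false_of_two_six hpr hpd hrd hp hr).elim
  have hs2 := h.prime.two_le
  obtain ⟨l, hlprim⟩ := CfsgLib.Char.Zsigmondy.exists_prim s n (by omega) (by omega)
    (fun e => h26 e) (fun e => hn2 e.1)
  haveI := Fact.mk hlprim.1
  have hdvd : ∀ l' : ℕ, l'.Prime → l' ∣ s ^ n - 1 → ¬ l' ∣ s ^ a - 1 → l' ∣ Nat.card X := by
    intro l' hl' h1 h2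
    rw [← hpc] at h1
    exact ((hl'.dvd_mul.1 h1).resolve_right h2).trans (card_sylow_dvd p)
  rcases h.degree_or_shape (by omega) (orderOf_natCast_of_prim (by omega) (by omega) hlprim)
    (hdvd l hlprim.1 hlprim.2.1 (hlprim.2.2 a ha1 han)) hpr hpd hrd hp hr with hgood | hsh
  · exact hgood
  obtain ⟨b, hb, hnb, -, hsne, -⟩ := hsh
  by_contra hno
  obtain ⟨b', rfl⟩ : ∃ b', b = b' + 2 := by
    rcases b with - | - | b'
    · omega
    · exact absurd hnb (by rw [zero_add, pow_one]; exact hn2)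
    · exact ⟨b', rfl⟩
  obtain ⟨c, hc⟩ : ∃ c, c = 2 ^ b' := ⟨_, rfl⟩
  have hn4 : n = 4 * c := by rw [hnb, hc, pow_add]; ring
  have hc1 : 1 ≤ c := hc ▸ Nat.one_le_two_pow
  have hsodd : s % 2 = 1 := h.prime.eq_two_or_odd.resolve_left hsne
  -- `s ^ (n / 2) + 1 = 2 M` with `M ∈ {1, n + 1}`
  obtain ⟨M, hM, hModd⟩ : ∃ M, s ^ (2 * c) + 1 = 2 * M ∧ M % 2 = 1 := by
    obtain ⟨m, hm⟩ : ∃ m, s ^ c = 2 * m + 1 := ⟨s ^ c / 2, by
      have : s ^ c % 2 = 1 := by rw [Nat.pow_mod, hsodd]; simp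
      omega⟩
    refine ⟨2 * m * m + 2 * m + 1, ?_, by
      rw [Nat.add_mod, Nat.add_mod (2 * m * m), Nat.mul_assoc 2 m m]; simp⟩
    rw [mul_comm 2 c, pow_mul, hm]
    ring
  have hfac : s ^ n - 1 = 2 * M * (s ^ (2 * c) - 1) := by
    rw [← hM, hn4, show 4 * c = (2 * c) * 2 by ring, pow_mul, ← Nat.sq_sub_sq, one_pow]
  have hsa : s ^ a - 1 ∣ s ^ (2 * c) - 1 := by
    have h1 : s ^ a - 1 ∣ s ^ n - 1 := ⟨Nat.card (Sylow p X), by rw [mul_comm]; exact hpc.symm⟩
    have h2 := Nat.pow_sub_one_gcd_pow_sub_one s a n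
    rw [Nat.gcd_eq_left h1] at h2
    have hgn : Nat.gcd a n ≠ n := fun e => by
      have := Nat.le_of_dvd ha1 (e ▸ Nat.gcd_dvd_left a n)
      omega
    have hag : Nat.gcd a n = a := by
      refine (Nat.pow_right_injective h.prime.two_le ?_).symm
      have := Nat.one_le_pow a s h.prime.pos
      have := Nat.one_le_pow (Nat.gcd a n) s h.prime.pos
      show s ^ a = s ^ Nat.gcd a n
      omega
    have han2 : a ∣ n := hag ▸ Nat.gcd_dvd_right a n
    rw [hnb] at han2
    obtain ⟨i, hi, rfl⟩ := (Nat.dvd_prime_pow Nat.prime_two).1 han2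
    have hi' : i ≤ b' + 1 := by
      by_contra hh
      have : i = b' + 2 := by omega
      subst this
      exact absurd hnb.symm han.ne
    exact Nat.pow_sub_one_dvd_pow_sub_one s (by rw [hc, ← pow_succ']; exact pow_dvd_pow 2 hi')
  have hprimes : ∀ l' : ℕ, l'.Prime → l' ∣ M →
      l' = n + 1 ∧ ¬ l' ^ 2 ∣ M := by
    intro l' hl' hlM
    haveI := Fact.mk hl'
    have hl2 : l' ≠ 2 := by
      rintro rfl
      omega
    have h1 : ((s : ZMod l') ^ (2 * c)) = -1 := by
      have h2 : ((s ^ (2 * c) + 1 : ℕ) : ZMod l') = 0 :=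
        (ZMod.natCast_eq_zero_iff _ l').2 (hM ▸ dvd_mul_of_dvd_right hlM 2)
      push_cast at h2
      exact eq_neg_of_add_eq_zero_left h2
    have hneg : (-1 : ZMod l') ≠ 1 := by
      intro e
      have h2 : ((2 : ℕ) : ZMod l') = 0 := by push_cast; linear_combination -e
      rw [ZMod.natCast_eq_zero_iff] at h2
      exact hl2 ((Nat.prime_dvd_prime_iff_eq hl' Nat.prime_two).1 h2)
    have hord : orderOf (s : ZMod l') = n := by
      rw [hnb]
      refine orderOf_eq_prime_pow ?_ ?_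
      · rw [show 2 ^ (b' + 1) = 2 * c by rw [hc, pow_succ']]
        rw [h1]
        exact hneg
      · rw [show 2 ^ (b' + 1 + 1) = 2 * c * 2 by rw [hc, pow_succ, pow_succ']; ]
        rw [pow_mul, h1, neg_one_sq]
    have hna : ¬ l' ∣ s ^ a - 1 := fun e => by
      have h2 := (CfsgLib.Char.Zsigmondy.dvd_pow_sub_one_iff (by omega)).1 (e.trans hsa)
      rw [h1] at h2
      exact hneg h2
    have hld := hdvd l' hl' (hfac ▸ dvd_mul_of_dvd_left (dvd_mul_of_dvd_right hlM 2) _) hna
    obtain ⟨b'', -, hnb'', hlb'', -, hsq⟩ :=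
      (h.degree_or_shape (by omega) hord hld hpr hpd hrd hp hr).resolve_left hno
    refine ⟨by omega, fun h2 => hsq ?_⟩
    have h3 : l' ^ 2 ∣ Nat.card (Sylow p X) * (s ^ a - 1) :=
      hpc ▸ hfac ▸ dvd_mul_of_dvd_left (dvd_mul_of_dvd_right h2 2) _
    exact ((Nat.Coprime.pow_left 2 (hl'.coprime_iff_not_dvd.2 hna)).dvd_of_dvd_mul_right h3).trans
      (card_sylow_dvd p)
  have hMle : M ≤ n + 1 := by
    by_cases hM1 : M = 1
    · omega
    obtain ⟨l', hl', hlM⟩ := Nat.exists_prime_and_dvd hM1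
    obtain ⟨rfl, hsq⟩ := hprimes l' hl' hlM
    obtain ⟨M', hM'⟩ := hlM
    by_cases hM'1 : M' = 1
    · rw [hM', hM'1, mul_one]
    obtain ⟨l'', hl'', hlM'⟩ := Nat.exists_prime_and_dvd hM'1
    obtain ⟨rfl, -⟩ := hprimes l'' hl'' (hM' ▸ dvd_mul_of_dvd_right hlM' _)
    exact absurd (by rw [hM', sq]; exact mul_dvd_mul_left _ hlM') hsq
  have hs3 : 3 ≤ s := by omega
  have hcle : 2 * c ≤ 2 := by
    by_contra hh
    have h1 := pow_gt_linear (2 * c) (by omega)
    have h2 := Nat.pow_le_pow_left hs3 (2 * c)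
    omega
  obtain rfl : c = 1 := by omega
  obtain rfl : n = 4 := by omega
  obtain rfl : s = 3 := by
    by_contra hh
    have := Nat.pow_le_pow_left (show 4 ≤ s by omega) (2 * 1)
    omega
  have h313 : ∀ q : ℕ, ∀ _ : Fact q.Prime, q ∣ Nat.card X → UniqueFix φ q → q = 3 := by
    intro q hq hqd hqu
    obtain ⟨e, he1, he4, hc', hm⟩ := hqu.numeric h hn0 hqd
    have hqm : q ∣ Nat.card (Sylow q X) - 1 :=
      (Nat.modEq_iff_dvd' Nat.card_pos).1 (by
        rw [Nat.ModEq, Nat.one_mod_eq_one.2 hq.out.ne_one, hm])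
    have hcases : Nat.card (Sylow q X) = 40 ∨ Nat.card (Sylow q X) = 10 := by
      interval_cases e <;> omega
    have hq4 : q ≤ 4 ∨ q = 5 := by
      by_contra hh
      obtain ⟨bb, -, hn4', hq5, -⟩ := h.shape_of_dvd hn0 (by omega) hqd (hqu.pCore_eq_bot h)
      omega
    rcases hcases with e' | e' <;> rw [e'] at hqm
    · rcases hq4 with hq4 | rfl
      · have hqp := hq.out
        interval_cases q <;> first | rfl | (norm_num at hqp; done) | (norm_num at hqm; done)
      · exact absurd hqm (by norm_num)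
    · rcases hq4 with hq4 | rfl
      · have hqp := hq.out
        interval_cases q <;> first | rfl | (norm_num at hqp; done) | (norm_num at hqm; done)
      · exact absurd hqm (by norm_num)
  exact hpr ((h313 p hp' hpd hp).trans (h313 r hr' hrd hr).symm)

end CfsgLib.DegComp.Palfy
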